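import Mathlib
import Cfsg.Agent.Helper10.FStarP
import Cfsg.Agent.Helper17.Basic

set_option autoImplicit false

namespace Cfsg.Agent.Helper13

open Cfsg Cfsg.Agent.Helper10

universe u

/-- characteristic `p` (in the centralizer form) implies `FStarP` -/
theorem fstarP_of_char {X : Type u} [Group X] [Finite X] (p : ℕ) [Fact p.Prime]
    (h : Subgroup.centralizer (pCore p X : Set X) ≤ pCore p X) : FStarP p X := by
  have hOp : IsPGroup p (pCore p X) := Cfsg.Agent.Helper17.pCore_isPGroup p X
  have hOn : (pCore p X).Normal := inferInstance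
  have hKn : (pPrimeCore p X).Normal := inferInstance
  have hcop := coprime_of_card_coprime _ (pPrimeCore_coprime p X)
  have hbot : pCore p X ⊓ pPrimeCore p X = ⊥ := inf_eq_bot_of_pGroup_coprime hOp hcop
  have hO : pPrimeCore p X = ⊥ := by
    have h1 : pPrimeCore p X ≤ Subgroup.centralizer (pCore p X : Set X) := by
      intro a ha
      rw [Subgroup.mem_centralizer_iff]
      intro b hb
      exact (Subgroup.commute_of_normal_of_disjoint _ _ hOn hKn (disjoint_iff.mpr hbot) b a hb ha).eq
    rw [eq_bot_iff]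
    intro a ha
    rw [← hbot]
    exact Subgroup.mem_inf.mpr ⟨h (h1 ha), ha⟩
  refine ⟨hO, ?_⟩
  rw [pLayer_eq_bot_iff, layer_quot_eq_bot_iff p hO, eq_bot_iff]
  apply sSup_le
  intro L hL
  exfalso
  have hle : L ≤ pCore p X := by
    refine le_trans ?_ h
    intro a ha
    rw [Subgroup.mem_centralizer_iff]
    intro b hb
    have hbF : b ∈ fittingSubgroup X := by
      rw [fitting_eq_pCore_of_pPrimeCore_bot p hO]; exact hb
    exact (layer_fitting_comm X a (le_sSup hL ha) b hbF).symm
  exact comp_not_le_solvable hL (solvable_of_pGroup hOp) hle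

theorem gfitting_eq_pCore_of_fstarP {X : Type u} [Group X] [Finite X] (p : ℕ) [Fact p.Prime]
    (h : FStarP p X) : generalizedFittingSubgroup X = pCore p X := by
  obtain ⟨h1, h2⟩ := h
  rw [pLayer_eq_bot_iff, layer_quot_eq_bot_iff p h1] at h2
  show layer X ⊔ fittingSubgroup X = pCore p X
  rw [h2, bot_sup_eq, fitting_eq_pCore_of_pPrimeCore_bot p h1]

theorem char_of_fstarP {X : Type u} [Group X] [Finite X] (p : ℕ) [Fact p.Prime]
    (h : FStarP p X) : Subgroup.centralizer (pCore p X : Set X) ≤ pCore p X := by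
  have h1 := centralizer_gfitting_le X
  rwa [gfitting_eq_pCore_of_fstarP p h] at h1

theorem pCore_char' {M : Type*} [Group M] (p : ℕ) (φ : M ≃* M) :
    (pCore p M).map (φ : M →* M) ≤ pCore p M := by
  apply sSup_map_equiv_le (fun N => N.Normal ∧ IsPGroup p N)
  rintro N ⟨hn, hp⟩
  exact ⟨hn.map _ φ.surjective, hp.map _⟩

/-- if a normal subgroup `C` containing `C_H(O_p(H))` has characteristic `p`, so does `H` -/
theorem fstarP_of_normal_ge {H : Type u} [Group H] [Finite H] (p : ℕ) [Fact p.Prime]
    (C : Subgroup H) [hCn : C.Normal] (hC : FStarP p ↥C)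
    (hle : Subgroup.centralizer (pCore p H : Set H) ≤ C) : FStarP p H := by
  apply fstarP_of_char
  have hchar := char_of_fstarP p hC
  have hn : ((pCore p ↥C).map C.subtype).Normal :=
    map_subtype_normal_of_char C _ (pCore_char' p)
  have hp : IsPGroup p ((pCore p ↥C).map C.subtype : Subgroup H) :=
    (Cfsg.Agent.Helper17.pCore_isPGroup p ↥C).map _
  have hsub : (pCore p ↥C).map C.subtype ≤ pCore p H := Cfsg.Agent.Helper17.le_pCore hn hp
  intro x hx
  have hxC : x ∈ C := hle hx
  have h1 : (⟨x, hxC⟩ : ↥C) ∈ Subgroup.centralizer (pCore p ↥C : Set ↥C) := by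
    rw [Subgroup.mem_centralizer_iff]
    intro b hb
    apply Subtype.ext
    exact (Subgroup.mem_centralizer_iff.mp hx) (b : H) (hsub ⟨b, hb, rfl⟩)
  exact hsub ⟨⟨x, hxC⟩, hchar h1, rfl⟩

/-- `F*(C_G(U))` a `p`-group implies `F*(N_G(U))` a `p`-group, for a `p`-subgroup `U` -/
theorem fstarP_normalizer_of_centralizer {G : Type u} [Group G] [Finite G] (p : ℕ) [Fact p.Prime]
    (U : Subgroup G) (hU : IsPGroup p U)
    (h : FStarP p ↥(Subgroup.centralizer (U : Set G))) :
    FStarP p ↥(Subgroup.normalizer (U : Set G)) := by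
  have hCN : Subgroup.centralizer (U : Set G) ≤ Subgroup.normalizer (U : Set G) :=
    Subgroup.centralizer_le_normalizer _
  haveI hn : ((Subgroup.centralizer (U : Set G)).subgroupOf
      (Subgroup.normalizer (U : Set G))).Normal :=
    (Subgroup.normal_subgroupOf_iff_le_normalizer hCN).mpr (normalizer_le_normalizer_centralizer U)
  apply fstarP_of_normal_ge p ((Subgroup.centralizer (U : Set G)).subgroupOf
      (Subgroup.normalizer (U : Set G)))
    (fstarP_of_equiv p (Subgroup.subgroupOfEquivOfLe hCN).symm h)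
  intro x hx
  rw [Subgroup.mem_subgroupOf, Subgroup.mem_centralizer_iff]
  intro u hu
  have huO : (⟨u, Subgroup.le_normalizer hu⟩ : ↥(Subgroup.normalizer (U : Set G)))
      ∈ pCore p ↥(Subgroup.normalizer (U : Set G)) := by
    have hle : U.subgroupOf (Subgroup.normalizer (U : Set G)) ≤ pCore p _ :=
      Cfsg.Agent.Helper17.le_pCore Subgroup.normal_in_normalizer hU.comap_subtype
    exact hle (Subgroup.mem_subgroupOf.mpr hu)
  exact congrArg Subtype.val ((Subgroup.mem_centralizer_iff.mp hx) _ huO)

end Cfsg.Agent.Helper13
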