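import Mathlib
import Cfsg.Agent.Helper13.Cubic

set_option autoImplicit false
universe u

namespace Cfsg.Agent.Helper13

open Cfsg Cfsg.Agent.Helper17
open scoped commutatorElement

section GoodCh

variable {G : Type*} [Group G]

/-- every chief factor `U / V` with `U ≤ V N` satisfies `[U, K; M] ≤ V`. -/
def GoodCh (K : Subgroup G) (M : ℕ) (N : Subgroup G) : Prop :=
  ∀ U V : Subgroup G, IsChiefFactor U V → U ≤ V ⊔ N → iterCommutator U K M ≤ V

theorem goodCh_bot (K : Subgroup G) (M : ℕ) : GoodCh K M ⊥ := by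
  intro U V hUV hU
  haveI := hUV.2.1
  rw [sup_bot_eq] at hU
  exact (iterCommutator_le_of_normal U K M).trans hU

theorem GoodCh.mono {K : Subgroup G} {M : ℕ} {N N' : Subgroup G} (h : GoodCh K M N)
    (hle : N' ≤ N) : GoodCh K M N' :=
  fun U V hUV hU => h U V hUV (hU.trans (sup_le_sup_left hle V))

theorem goodCh_ext {K : Subgroup G} {M : ℕ} (N N' : Subgroup G) [hNn : N'.Normal]
    (hN' : GoodCh K M N') (hstep : iterCommutator N K M ≤ N') : GoodCh K M N := by
  intro U V hUV hU
  by_cases h : U ≤ V ⊔ N'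
  · exact hN' U V hUV h
  · obtain ⟨hVU, hUn, hVn, hmin⟩ := hUV
    haveI := hUn
    haveI := hVn
    have hn : (U ⊓ (V ⊔ N')).Normal := inferInstance
    have h1 : U ⊓ (V ⊔ N') = V := by
      rcases hmin _ hn (le_inf hVU.le le_sup_left) inf_le_left with h2 | h2
      · exact h2
      · exact absurd (inf_eq_left.mp h2) h
    have h3 : iterCommutator U K M ≤ V ⊔ N' :=
      ((iterCommutator_mono hU K M).trans (iterCommutator_sup_le V N K M)).trans
        (sup_le_sup_left hstep V)
    have h4 : iterCommutator U K M ≤ U ⊓ (V ⊔ N') :=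
      le_inf (iterCommutator_le_of_normal U K M) h3
    rwa [h1] at h4

variable [Finite G]

/-- a nontrivial normal subgroup has a chief factor at its top. -/
theorem exists_chief_below (W : Subgroup G) (hWn : W.Normal) (hW : W ≠ ⊥) :
    ∃ W₁ : Subgroup G, IsChiefFactor W W₁ := by
  classical
  obtain ⟨V, hVn, hVU, hVmax⟩ : ∃ V : Subgroup G, V.Normal ∧ V < W ∧
      ∀ V' : Subgroup G, V'.Normal → V' < W → Nat.card V' ≤ Nat.card V := by
    have hfin : ({V : Subgroup G | V.Normal ∧ V < W}).Finite := Set.toFinite _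
    obtain ⟨V, hV, hVmax⟩ := Finset.exists_max_image hfin.toFinset
      (fun V : Subgroup G => Nat.card V)
      ⟨⊥, by rw [Set.Finite.mem_toFinset]; exact ⟨inferInstance, bot_lt_iff_ne_bot.mpr hW⟩⟩
    rw [Set.Finite.mem_toFinset] at hV
    exact ⟨V, hV.1, hV.2, fun V' hV'n hV'U => hVmax V' (by
      rw [Set.Finite.mem_toFinset]; exact ⟨hV'n, hV'U⟩)⟩
  refine ⟨V, hVU, hWn, hVn, fun N hN hVN hNU => ?_⟩
  by_cases hNeq : N = W
  · exact Or.inr hNeq
  · left
    have h1 := hVmax N hN (lt_of_le_of_ne hNU hNeq)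
    exact (Subgroup.eq_of_le_of_card_ge hVN h1).symm

/-- a normal subgroup properly inside the normal subgroup `Q` has a chief factor above it
inside `Q`. -/
theorem exists_chief_above (Q c : Subgroup G) (hQn : Q.Normal) (hcn : c.Normal) (hcQ : c ≤ Q)
    (hne : c ≠ Q) : ∃ c' : Subgroup G, IsChiefFactor c' c ∧ c' ≤ Q := by
  classical
  obtain ⟨V, hVn, hcV, hVQ, hVmin⟩ : ∃ V : Subgroup G, V.Normal ∧ c < V ∧ V ≤ Q ∧
      ∀ V' : Subgroup G, V'.Normal → c < V' → V' ≤ Q → Nat.card V ≤ Nat.card V' := by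
    have hfin : ({V : Subgroup G | V.Normal ∧ c < V ∧ V ≤ Q}).Finite := Set.toFinite _
    obtain ⟨V, hV, hVmin⟩ := Finset.exists_min_image hfin.toFinset
      (fun V : Subgroup G => Nat.card V)
      ⟨Q, by rw [Set.Finite.mem_toFinset]; exact ⟨hQn, lt_of_le_of_ne hcQ hne, le_rfl⟩⟩
    rw [Set.Finite.mem_toFinset] at hV
    exact ⟨V, hV.1, hV.2.1, hV.2.2, fun V' hV'n hV'c hV'Q => hVmin V' (by
      rw [Set.Finite.mem_toFinset]; exact ⟨hV'n, hV'c, hV'Q⟩)⟩
  refine ⟨V, ⟨hcV, hVn, hcn, fun N hN hcN hNV => ?_⟩, hVQ⟩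
  by_cases hNeq : N = c
  · exact Or.inl hNeq
  · right
    have h1 := hVmin N hN (lt_of_le_of_ne hcN (Ne.symm hNeq)) (hNV.trans hVQ)
    exact Subgroup.eq_of_le_of_card_ge hNV h1

variable {p : ℕ} [Fact p.Prime]

/-- a normal `p`-subgroup centralizes the chief factors inside it. -/
theorem commutator_le_of_chief (P : Subgroup G) [hPn : P.Normal] (hP : IsPGroup p P)
    (W W₁ : Subgroup G) (hWW₁ : IsChiefFactor W W₁) (hWP : W ≤ P) : ⁅W, P⁆ ≤ W₁ := by
  obtain ⟨hlt, hWn, hW₁n, hmin⟩ := hWW₁
  haveI := hWn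
  haveI := hW₁n
  have hcW : ⁅W, P⁆ ≤ W := Subgroup.commutator_le_left W P
  have hNn : (W₁ ⊔ ⁅W, P⁆).Normal := inferInstance
  rcases hmin _ hNn le_sup_left (sup_le hlt.le hcW) with h1 | h1
  · rw [← h1]; exact le_sup_right
  · exfalso
    have key : ∀ n : ℕ, W ≤ W₁ ⊔ iterCommutator W P n := by
      intro n
      induction n with
      | zero => exact le_sup_right
      | succ n ih =>
        have h2 : ⁅W, P⁆ ≤ W₁ ⊔ iterCommutator W P (n + 1) := by
          rw [iterCommutator_succ]
          exact (Subgroup.commutator_mono ih le_rfl).trans (commutator_sup_le W₁ _ P)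
        calc W = W₁ ⊔ ⁅W, P⁆ := h1.symm
          _ ≤ W₁ ⊔ iterCommutator W P (n + 1) := sup_le le_sup_left h2
    haveI : Group.IsNilpotent P := hP.isNilpotent
    obtain ⟨n, hn⟩ := (Subgroup.isNilpotent_iff_lowerCentralSeries P).mp inferInstance
    have h3 := iterCommutator_le_lowerCentralSeries W P hWP n
    rw [hn] at h3
    have h4 := key n
    rw [le_bot_iff.mp h3, sup_bot_eq] at h4
    exact (not_le_of_gt hlt) h4

/-- the chief factor form of the cubic bound: if `[X, K; i] ≤ Y` on the chief factors inside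
`Q` and `[X, K; j] ≤ Y` on those inside `Z(Q)`, for a normal subgroup `Q` of the normal
`p`-subgroup `P` with `[P, Q] ≤ Z(Q)` and `C_P(Q) ≤ Q`, then `[X, K; i + j - 1] ≤ Y` on the
chief factors inside `P`. -/
theorem chief_bound_of_chief (P Q K : Subgroup G) [hPn : P.Normal] [hQn : Q.Normal]
    (hP : IsPGroup p P) (hQP : Q ≤ P)
    (hQ3 : ⁅P, Q⁆ ≤ Q ⊓ Subgroup.centralizer (Q : Set G))
    (hQ4 : P ⊓ Subgroup.centralizer (Q : Set G) ≤ Q)
    (i j : ℕ) (hi : 1 ≤ i)
    (hQi : ∀ U V : Subgroup G, IsChiefFactor U V → U ≤ Q → iterCommutator U K i ≤ V)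
    (hZj : ∀ U V : Subgroup G, IsChiefFactor U V → U ≤ Q ⊓ Subgroup.centralizer (Q : Set G) →
      iterCommutator U K j ≤ V) :
    ∀ U V : Subgroup G, IsChiefFactor U V → U ≤ P → iterCommutator U K (i + j - 1) ≤ V := by
  obtain ⟨Z, hZ⟩ : ∃ Z : Subgroup G, Z = Q ⊓ Subgroup.centralizer (Q : Set G) := ⟨_, rfl⟩
  haveI hZn : Z.Normal := by rw [hZ]; infer_instance
  rw [← hZ] at hQ3 hZj
  obtain ⟨M, hM⟩ : ∃ M, M = i + j - 1 := ⟨_, rfl⟩
  rw [← hM]
  have hjM : j ≤ M := by omega
  have hZQ : Z ≤ Q := hZ ▸ inf_le_left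
  have hZP : Z ≤ P := hZQ.trans hQP
  have hZQc : ⁅Z, Q⁆ = ⊥ := by
    rw [Subgroup.commutator_eq_bot_iff_le_centralizer, hZ]; exact inf_le_right
  -- the chief factors inside `Z`
  have part1 : ∀ (n : ℕ) (N : Subgroup G), N.Normal → N ≤ Z → Nat.card N ≤ n →
      GoodCh K M N := by
    intro n
    induction n with
    | zero =>
      intro N _ _ hc
      exact absurd hc (by have := Nat.card_pos (α := ↥N); omega)
    | succ n ih =>
      intro N hNn hNZ hc
      by_cases hN : N = ⊥
      · rw [hN]; exact goodCh_bot K M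
      obtain ⟨W₁, hch⟩ := exists_chief_below N hNn hN
      haveI := hch.2.2.1
      have hcard : Nat.card W₁ ≤ n := by
        have h1 := card_lt_of_lt' hch.1
        omega
      refine goodCh_ext N W₁ (ih W₁ hch.2.2.1 (hch.1.le.trans hNZ) hcard) ?_
      haveI := hNn
      exact (iterCommutator_antitone N K (by rw [Subgroup.normalizer_eq_top]; exact le_top)
        hjM).trans (hZj N W₁ hch hNZ)
  have hgZ : GoodCh K M Z := part1 _ Z hZn le_rfl le_rfl
  -- the stabilizers of `Q` modulo the normal subgroups inside `Z`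
  have partA : ∀ (n : ℕ) (W : Subgroup G) [W.Normal], W ≤ Z → Nat.card W ≤ n →
      GoodCh K M (P ⊓ stabMod Q W) := by
    intro n
    induction n with
    | zero =>
      intro W _ _ hc
      exact absurd hc (by have := Nat.card_pos (α := ↥W); omega)
    | succ n ih =>
      intro W hWn hWZ hc
      by_cases hW : W = ⊥
      · apply hgZ.mono
        rintro x ⟨hxP, hxS⟩
        have hxC : x ∈ Subgroup.centralizer (Q : Set G) := by
          rw [Subgroup.mem_centralizer_iff]
          intro a ha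
          have h1 : ⁅a, x⁆ ∈ W := hxS a ha
          rw [hW, Subgroup.mem_bot, commutatorElement_eq_one_iff_commute] at h1
          exact h1.eq
        rw [hZ]
        exact ⟨hQ4 ⟨hxP, hxC⟩, hxC⟩
      obtain ⟨W₁, hch⟩ := exists_chief_below W hWn hW
      haveI hW₁n := hch.2.2.1
      have hW₁W : W₁ ≤ W := hch.1.le
      have hcard : Nat.card W₁ ≤ n := by
        have h1 := card_lt_of_lt' hch.1
        omega
      have ihW := ih W₁ (hW₁W.trans hWZ) hcard
      have hWK : iterCommutator W K j ≤ W₁ := hZj W W₁ hch hWZ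
      have hWP : ⁅W, P⁆ ≤ W₁ := commutator_le_of_chief P hP W W₁ hch (hWZ.trans hZP)
      have hbase : ∀ (c : Subgroup G) [c.Normal], c = Q →
          GoodCh K M (P ⊓ stabMod Q W ⊓ stabMod c W₁) := by
        intro c _ hcQ'
        apply ihW.mono
        rintro x ⟨⟨hxP, -⟩, hx⟩
        exact ⟨hxP, fun a ha => hx a (by rw [hcQ']; exact ha)⟩
      have partB : ∀ (d : ℕ) (c : Subgroup G) [c.Normal], c ≤ Q → Nat.card Q ≤ Nat.card c + d →
          GoodCh K M (P ⊓ stabMod Q W ⊓ stabMod c W₁) := by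
        intro d
        induction d with
        | zero =>
          intro c _ hcQ hcc
          exact hbase c (Subgroup.eq_of_le_of_card_ge hcQ (by omega))
        | succ d ihd =>
          intro c hcn hcQ hcc
          by_cases hcQ' : c = Q
          · exact hbase c hcQ'
          obtain ⟨c', hch', hc'Q⟩ := exists_chief_above Q c hQn hcn hcQ hcQ'
          haveI hc'n := hch'.2.1
          have hcard' : Nat.card Q ≤ Nat.card c' + d := by
            have h1 := card_lt_of_lt' hch'.1
            omega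
          refine goodCh_ext _ (P ⊓ stabMod Q W ⊓ stabMod c' W₁) (ihd c' hc'Q hcard') ?_
          obtain ⟨X, hX⟩ : ∃ X : Subgroup G, X = P ⊓ stabMod Q W ⊓ stabMod c W₁ := ⟨_, rfl⟩
          rw [← hX]
          haveI hXn : X.Normal := by rw [hX]; infer_instance
          have hXP : X ≤ P := hX ▸ (inf_le_left.trans inf_le_left)
          have hXS : X ≤ stabMod Q W := hX ▸ (inf_le_left.trans inf_le_right)
          have hXQ : ⁅Q, X⁆ ≤ W := (le_stabMod_iff Q W X).mp hXS
          have hXc : ⁅c, X⁆ ≤ W₁ := (le_stabMod_iff c W₁ X).mp (hX ▸ inf_le_right)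
          have hmain := commutator_iterCommutator_le c' W W₁ X K hW₁W
            ((Subgroup.commutator_mono hc'Q le_rfl).trans hXQ)
            ((Subgroup.commutator_mono le_rfl hXP).trans hWP)
            (by
              have h1 : ⁅W, c'⁆ ≤ ⁅Z, Q⁆ := Subgroup.commutator_mono hWZ hc'Q
              rw [hZQc] at h1
              exact h1.trans bot_le)
            i j
            ((Subgroup.commutator_mono (hQi c' c hch' hc'Q) le_rfl).trans hXc)
            hWK M 0 (Nat.zero_le i)
          have h7 : min j (M + 0 + 1 - i) = j := by omega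
          rw [h7] at hmain
          have hmain' : ⁅c', iterCommutator X K M⁆ ≤ W₁ := hmain.trans (sup_le le_rfl hWK)
          have hXM : iterCommutator X K M ≤ X := iterCommutator_le_of_normal X K M
          exact le_inf (le_inf (hXM.trans hXP) (hXM.trans hXS))
            ((le_stabMod_iff c' W₁ _).mpr hmain')
      have h0 := partB (Nat.card Q) ⊥ bot_le (by omega)
      apply h0.mono
      refine le_inf le_rfl ?_
      intro x _ a ha
      rw [Subgroup.mem_bot] at ha
      rw [ha, commutatorElement_one_left]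
      exact W₁.one_mem
  have hfinal := partA _ Z le_rfl le_rfl
  intro U V hUV hUP
  apply hfinal U V hUV
  have hPS : P ≤ stabMod Q Z :=
    (le_stabMod_iff Q Z P).mpr (by rw [Subgroup.commutator_comm]; exact hQ3)
  exact (hUP.trans (le_inf le_rfl hPS)).trans le_sup_right

end GoodCh

end Cfsg.Agent.Helper13
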