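import Mathlib
import Cfsg.Agent.Helper13.KInf2
import Cfsg.Agent.Helper13.WC2

set_option autoImplicit false
universe u

namespace Cfsg.Agent.Helper13

open Cfsg Cfsg.Agent.Helper17
open scoped commutatorElement

section KInfLoc

variable {G : Type u} [Group G] [Finite G] {p : ℕ} [Fact p.Prime]

/-- the centre of a `p`-subgroup lies in its lower K-infinity subgroup. -/
theorem inf_centralizer_le_inducedFunctor_kInfLower (P : Subgroup G) :
    P ⊓ Subgroup.centralizer ((P : Subgroup G) : Set G) ≤ inducedFunctor kInfLower P := by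
  rintro x ⟨hxP, hxC⟩
  refine ⟨⟨x, hxP⟩, center_le_kInfLower _ ?_, rfl⟩
  rw [Subgroup.mem_center_iff]
  intro g
  apply Subtype.ext
  exact Subgroup.mem_centralizer_iff.mp hxC g g.2

/-- **Theorem K** in a subgroup `H`: if the lower K-infinity subgroup of the Sylow subgroup `T`
of `H` is not normal in `H`, some `g ∈ T` outside `O_p(H)` acts quadratically on `Z(O_p(H))`. -/
theorem kinf_hloc_quad (H T : Subgroup G) (hTH : T ≤ H) (hTp : IsPGroup p ↥T)
    (hidx : ¬ p ∣ T.relIndex H)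
    (hn : ¬ H ≤ Subgroup.normalizer ((inducedFunctor kInfLower T : Subgroup G) : Set G)) :
    ∃ g : G, g ∈ T ∧ g ∉ pCoreOf p H ∧
      ⁅⁅pCoreOf p H ⊓ Subgroup.centralizer ((pCoreOf p H : Subgroup G) : Set G),
        Subgroup.zpowers g⁆, Subgroup.zpowers g⁆ = ⊥ := by
  have hinj := Subgroup.subtype_injective H
  have hT'p : IsPGroup p ↥(T.subgroupOf H) := hTp.comap_subtype
  have hT'map : (T.subgroupOf H).map H.subtype = T := Subgroup.map_subgroupOf_eq_of_le hTH
  obtain ⟨S, hS⟩ : ∃ S : Sylow p ↥H, (S : Subgroup ↥H) = T.subgroupOf H :=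
    ⟨hT'p.toSylow hidx, IsPGroup.toSylow_coe hT'p hidx⟩
  have hmap := inducedFunctor_map kInfLower (isCharPFunctor_kInfLower p) H.subtype hinj
    (S : Subgroup ↥H) S.2
  rw [hS, hT'map] at hmap
  have hn' : ¬ (inducedFunctor kInfLower (S : Subgroup ↥H)).Normal := by
    intro hnorm
    apply hn
    rw [hmap, ← hS]
    intro y hy
    have h1 : (⟨y, hy⟩ : ↥H) ∈ Subgroup.normalizer
        ((inducedFunctor kInfLower (S : Subgroup ↥H) : Subgroup ↥H) : Set ↥H) := by
      rw [Subgroup.normalizer_eq_top_iff.mpr hnorm]; exact Subgroup.mem_top _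
    exact (mem_normalizer_map_subtype_iff H ⟨y, hy⟩ _).mpr h1
  obtain ⟨g, hgS, hgQ, -, hquad⟩ := exists_unipotent_of_kinf_not_normal S (Or.inl hn')
  refine ⟨(g : G), ?_, ?_, ?_⟩
  · rw [hS] at hgS
    exact Subgroup.mem_subgroupOf.mp hgS
  · rintro ⟨g', hg', hge⟩
    have h1 : g' = g := Subtype.ext hge
    exact hgQ (h1 ▸ hg')
  · have h1 := congrArg (Subgroup.map H.subtype) hquad
    rw [Subgroup.map_commutator, Subgroup.map_commutator, map_inf_centralizer,
      MonoidHom.map_zpowers, Subgroup.map_bot] at h1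
    exact h1

theorem iterCommutator_eq_bot_of_le {X : Type*} [Group X] (U K : Subgroup X) {i j : ℕ} (hij : i ≤ j)
    (h : iterCommutator U K i = ⊥) : iterCommutator U K j = ⊥ := by
  obtain ⟨d, rfl⟩ := Nat.exists_eq_add_of_le hij
  rw [iterCommutator_add, h, iterCommutator_bot]

/-- the local hypothesis of the weak closure theorem for the lower K-infinity functor,
`p` odd. -/
theorem kinf_hloc_chief (hp2 : p ≠ 2) (H T : Subgroup G) (hTH : T ≤ H) (hTp : IsPGroup p ↥T)
    (hidx : ¬ p ∣ T.relIndex H)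
    (hn : ¬ H ≤ Subgroup.normalizer ((inducedFunctor kInfLower T : Subgroup G) : Set G)) :
    ∃ g : G, g ∈ T ∧ g ∉ pCoreOf p H ∧ ∀ U V : Subgroup ↥H, IsChiefFactor U V →
      U.map H.subtype ≤ pCoreOf p H ⊓ Subgroup.centralizer ((pCoreOf p H : Subgroup G) : Set G) →
      iterCommutator (U.map H.subtype) (Subgroup.zpowers g) (p - 1) ≤ V.map H.subtype := by
  obtain ⟨g, hgT, hgQ, hquad⟩ := kinf_hloc_quad H T hTH hTp hidx hn
  refine ⟨g, hgT, hgQ, fun U V _ hUZ => ?_⟩
  have hp3 : 2 ≤ p - 1 := by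
    have := (Fact.out : p.Prime).two_le
    omega
  have h1 : iterCommutator (U.map H.subtype) (Subgroup.zpowers g) 2 = ⊥ := by
    have h2 := iterCommutator_mono hUZ (Subgroup.zpowers g) 2
    have h3 : iterCommutator (pCoreOf p H ⊓
        Subgroup.centralizer ((pCoreOf p H : Subgroup G) : Set G)) (Subgroup.zpowers g) 2 = ⊥ :=
      hquad
    rw [h3] at h2
    exact le_bot_iff.mp h2
  rw [iterCommutator_eq_bot_of_le _ _ hp3 h1]
  exact bot_le

end KInfLoc

end Cfsg.Agent.Helper13
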