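import Mathlib
import Cfsg.Prelude.Def_LocalEven
import Cfsg.Agent.Helper13.KInf3
import Cfsg.Agent.Helper17.LocChar

set_option autoImplicit false
universe u

namespace Cfsg.Agent.Helper13

open Cfsg Cfsg.Agent.Helper17
open scoped commutatorElement

section PSHom

variable {X Y : Type*} [Group X] [Group Y] {p : ℕ} [Fact p.Prime]

/-- internal form of `p`-stability of the image: the preimage `O` of
`O_p(N(P̄)/C(P̄))` is normalized by `N(P)`, its elements of order prime to `p` centralize `P`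
modulo the kernel, and it contains the elements acting quadratically modulo the kernel. -/
theorem psi_hom (f : X →* Y) (hps : IsNormalizerPStable p Y) (P : Subgroup X)
    (hPp : IsPGroup p (P.map f)) :
    ∃ O : Subgroup X, (∀ x ∈ Subgroup.normalizer (P : Set X), ∀ o ∈ O, x * o * x⁻¹ ∈ O) ∧
      (∀ y ∈ O, (orderOf y).Coprime p → ∀ x ∈ P, ⁅x, y⁆ ∈ f.ker) ∧
      (∀ g ∈ Subgroup.normalizer (P : Set X),
        ⁅⁅P, Subgroup.zpowers g⁆, Subgroup.zpowers g⁆ ≤ f.ker → g ∈ O) := by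
  obtain ⟨𝒩, h𝒩⟩ : ∃ 𝒩 : Subgroup Y, 𝒩 = Subgroup.normalizer ((P.map f : Subgroup Y) : Set Y) :=
    ⟨_, rfl⟩
  have hfN : ∀ x ∈ Subgroup.normalizer (P : Set X), f x ∈ 𝒩 := by
    intro x hx
    rw [h𝒩]
    exact Subgroup.le_normalizer_map f (Subgroup.mem_map_of_mem f hx)
  subst h𝒩
  haveI hOpn := pCore_normal' p (↥(Subgroup.normalizer ((P.map f : Subgroup Y) : Set Y)) ⧸
    (Subgroup.centralizer ((P.map f : Subgroup Y) : Set Y)).subgroupOf
      (Subgroup.normalizer ((P.map f : Subgroup Y) : Set Y)))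
  have hOpp := pCore_isPGroup p (↥(Subgroup.normalizer ((P.map f : Subgroup Y) : Set Y)) ⧸
    (Subgroup.centralizer ((P.map f : Subgroup Y) : Set Y)).subgroupOf
      (Subgroup.normalizer ((P.map f : Subgroup Y) : Set Y)))
  refine ⟨(((pCore p (↥(Subgroup.normalizer ((P.map f : Subgroup Y) : Set Y)) ⧸
    (Subgroup.centralizer ((P.map f : Subgroup Y) : Set Y)).subgroupOf
      (Subgroup.normalizer ((P.map f : Subgroup Y) : Set Y)))).comap
        (QuotientGroup.mk' ((Subgroup.centralizer ((P.map f : Subgroup Y) : Set Y)).subgroupOf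
      (Subgroup.normalizer ((P.map f : Subgroup Y) : Set Y))))).map
        (Subgroup.normalizer ((P.map f : Subgroup Y) : Set Y)).subtype).comap f, ?_, ?_, ?_⟩
  · intro x hx o ho
    obtain ⟨n, hn, hne⟩ := ho
    refine ⟨⟨f x, hfN x hx⟩ * n * ⟨f x, hfN x hx⟩⁻¹, ?_, ?_⟩
    · show QuotientGroup.mk' _ (⟨f x, hfN x hx⟩ * n * ⟨f x, hfN x hx⟩⁻¹) ∈ pCore p _
      rw [map_mul, map_mul, map_inv]
      exact hOpn.conj_mem _ hn _
    · show f x * (n : Y) * (f x)⁻¹ = f (x * o * x⁻¹)
      rw [map_mul, map_mul, map_inv]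
      have : (n : Y) = f o := hne
      rw [this]
  · intro y hy hyc x hx
    obtain ⟨n, hn, hne⟩ := hy
    have hne' : (n : Y) = f y := hne
    have hn' : QuotientGroup.mk' _ n ∈ pCore p _ := hn
    have hord : (orderOf (QuotientGroup.mk' ((Subgroup.centralizer
        ((P.map f : Subgroup Y) : Set Y)).subgroupOf
      (Subgroup.normalizer ((P.map f : Subgroup Y) : Set Y))) n)).Coprime p := by
      have h1 : orderOf (QuotientGroup.mk' ((Subgroup.centralizer
          ((P.map f : Subgroup Y) : Set Y)).subgroupOf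
          (Subgroup.normalizer ((P.map f : Subgroup Y) : Set Y))) n) ∣ orderOf n :=
        orderOf_map_dvd _ n
      have h2 : orderOf n = orderOf (f y) := by
        rw [← hne', Subgroup.orderOf_coe]
      have h3 : orderOf (f y) ∣ orderOf y := orderOf_map_dvd f y
      exact Nat.Coprime.coprime_dvd_left (h1.trans (h2 ▸ h3)) hyc
    have h1 := eq_one_of_isPGroup_of_coprime hOpp hn' hord
    have h2 : n ∈ (Subgroup.centralizer ((P.map f : Subgroup Y) : Set Y)).subgroupOf
        (Subgroup.normalizer ((P.map f : Subgroup Y) : Set Y)) :=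
      (QuotientGroup.eq_one_iff n).mp h1
    have h3 : f y ∈ Subgroup.centralizer ((P.map f : Subgroup Y) : Set Y) := by
      rw [← hne']; exact Subgroup.mem_subgroupOf.mp h2
    have h4 := (Subgroup.mem_centralizer_iff.mp h3) (f x) (Subgroup.mem_map_of_mem f hx)
    rw [MonoidHom.mem_ker, map_commutatorElement, commutatorElement_eq_one_iff_commute]
    exact h4
  · intro g hg hquad
    have hq : ⁅⁅P.map f, Subgroup.zpowers (f g)⁆, Subgroup.zpowers (f g)⁆ = ⊥ := by
      rw [← MonoidHom.map_zpowers, ← Subgroup.map_commutator, ← Subgroup.map_commutator]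
      exact (Subgroup.map_eq_bot_iff _).mpr hquad
    have h1 := hps (P.map f) hPp (f g) (hfN g hg) hq
    exact ⟨⟨f g, hfN g hg⟩, h1, rfl⟩

/-- `p`-stability in the normalizer form is invariant under isomorphism. -/
theorem nps_of_equiv [Finite X] (e : X ≃* Y) (h : IsNormalizerPStable p X) :
    IsNormalizerPStable p Y := by
  haveI : Finite Y := Finite.of_equiv X e.toEquiv
  intro P hP g hg hquad
  obtain ⟨O, h1, h2, h3⟩ := psi_hom e.symm.toMonoidHom h P (hP.map _)
  have hker : e.symm.toMonoidHom.ker = ⊥ :=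
    (MonoidHom.ker_eq_bot_iff _).mpr e.symm.injective
  rw [hker] at h2 h3
  have hgO : g ∈ O := h3 g hg (by rw [hquad])
  haveI hOn : (O.subgroupOf (Subgroup.normalizer ((P : Subgroup Y) : Set Y))).Normal := by
    constructor
    intro o ho n
    exact h1 n n.2 o ho
  have hmapn : ((O.subgroupOf (Subgroup.normalizer ((P : Subgroup Y) : Set Y))).map
      (QuotientGroup.mk' ((Subgroup.centralizer ((P : Subgroup Y) : Set Y)).subgroupOf
        (Subgroup.normalizer ((P : Subgroup Y) : Set Y))))).Normal :=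
    hOn.map _ (QuotientGroup.mk'_surjective _)
  have hmapp : IsPGroup p ↥((O.subgroupOf (Subgroup.normalizer ((P : Subgroup Y) : Set Y))).map
      (QuotientGroup.mk' ((Subgroup.centralizer ((P : Subgroup Y) : Set Y)).subgroupOf
        (Subgroup.normalizer ((P : Subgroup Y) : Set Y))))) := by
    rintro ⟨q, n, hn, rfl⟩
    obtain ⟨a, ha⟩ := exists_pow_coprime_order p (n : Y)
    refine ⟨a, Subtype.ext ?_⟩
    show (QuotientGroup.mk' _ n) ^ p ^ a = 1
    rw [← map_pow]
    apply (QuotientGroup.eq_one_iff _).mpr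
    rw [Subgroup.mem_subgroupOf, Subgroup.mem_centralizer_iff]
    intro x hx
    have h4 := h2 ((n : Y) ^ p ^ a) (O.pow_mem hn _) ha x hx
    rw [Subgroup.mem_bot, commutatorElement_eq_one_iff_commute] at h4
    exact h4
  exact le_pCore hmapn hmapp ⟨⟨g, hg⟩, hgO, rfl⟩

end PSHom

section PSSub

variable {G : Type*} [Group G] [Finite G] {p : ℕ} [Fact p.Prime]

/-- internal form of `p`-stability of the section `K / N`. -/
theorem psi_sub (K N P : Subgroup G) [hN : (N.subgroupOf K).Normal]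
    (hps : IsNormalizerPStable p (↥K ⧸ N.subgroupOf K)) (hPK : P ≤ K)
    (hPp : ∀ x ∈ P, ∃ k : ℕ, x ^ p ^ k ∈ N) :
    ∃ O : Subgroup G, O ≤ K ∧ K ⊓ Subgroup.normalizer (P : Set G) ≤ Subgroup.normalizer (O : Set G) ∧
      (∀ y ∈ O, (orderOf y).Coprime p → ∀ x ∈ P, ⁅x, y⁆ ∈ N) ∧
      (∀ g ∈ K ⊓ Subgroup.normalizer (P : Set G),
        ⁅⁅P, Subgroup.zpowers g⁆, Subgroup.zpowers g⁆ ≤ N → g ∈ O) := by
  have hker : (QuotientGroup.mk' (N.subgroupOf K)).ker = N.subgroupOf K := QuotientGroup.ker_mk' _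
  have hPp' : IsPGroup p ↥((P.subgroupOf K).map (QuotientGroup.mk' (N.subgroupOf K))) := by
    rintro ⟨q, x', hx', rfl⟩
    obtain ⟨k, hk⟩ := hPp (x' : G) (Subgroup.mem_subgroupOf.mp hx')
    refine ⟨k, Subtype.ext ?_⟩
    show (QuotientGroup.mk' _ x') ^ p ^ k = 1
    rw [← map_pow]
    apply (QuotientGroup.eq_one_iff _).mpr
    rw [Subgroup.mem_subgroupOf]
    exact hk
  obtain ⟨O', h1, h2, h3⟩ := psi_hom (QuotientGroup.mk' (N.subgroupOf K)) hps (P.subgroupOf K) hPp'
  rw [hker] at h2 h3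
  have hnorm : ∀ x : G, ∀ hxK : x ∈ K, x ∈ Subgroup.normalizer (P : Set G) →
      (⟨x, hxK⟩ : ↥K) ∈ Subgroup.normalizer ((P.subgroupOf K : Subgroup ↥K) : Set ↥K) := by
    intro x hxK hx
    rw [Subgroup.mem_normalizer_iff]
    intro h
    rw [Subgroup.mem_subgroupOf, Subgroup.mem_subgroupOf]
    exact (Subgroup.mem_normalizer_iff.mp hx) (h : G)
  refine ⟨O'.map K.subtype, Subgroup.map_subtype_le _, ?_, ?_, ?_⟩
  · rintro x ⟨hxK, hxN⟩
    apply mem_normalizer_of_cj_le
    intro y hy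
    rw [mem_cj] at hy
    obtain ⟨o, ho, hoe⟩ := hy
    have h4 := h1 ⟨x, hxK⟩ (hnorm x hxK hxN) o ho
    refine ⟨_, h4, ?_⟩
    show x * (o : G) * x⁻¹ = y
    have : (o : G) = x⁻¹ * y * x := hoe
    rw [this]; group
  · rintro y ⟨y', hy', rfl⟩ hyc x hx
    have hyc' : (orderOf y').Coprime p := by
      rw [← Subgroup.orderOf_coe]; exact hyc
    have h4 := h2 y' hy' hyc' ⟨x, hPK hx⟩ (Subgroup.mem_subgroupOf.mpr hx)
    exact Subgroup.mem_subgroupOf.mp h4
  · rintro g ⟨hgK, hgN⟩ hquad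
    refine ⟨⟨g, hgK⟩, h3 ⟨g, hgK⟩ (hnorm g hgK hgN) ?_, rfl⟩
    have h5 : (⁅⁅P.subgroupOf K, Subgroup.zpowers (⟨g, hgK⟩ : ↥K)⁆,
        Subgroup.zpowers (⟨g, hgK⟩ : ↥K)⁆).map K.subtype ≤ N := by
      rw [Subgroup.map_commutator, Subgroup.map_commutator, MonoidHom.map_zpowers,
        Subgroup.map_subgroupOf_eq_of_le hPK]
      exact hquad
    exact (Subgroup.map_le_iff_le_comap).mp h5

end PSSub

end Cfsg.Agent.Helper13
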