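import Mathlib
import Cfsg.Agent.Helper13.PStab

set_option autoImplicit false
universe u

namespace Cfsg.Agent.Helper13

open Cfsg Cfsg.Agent.Helper17
open scoped commutatorElement

section KP2

variable {P : Type*} [Group P]

/-- **Theorem K**, combinatorial part, second form: if the elements acting quadratically on
`A / Z(A)` and on `Z(A)` lie in `T`, and the members of the lower-star families relative to
subgroups containing `A` lie in `T`, then all terms of the K-sequence of nonnegative index lie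
in `T`. -/
theorem kSeq_le_of_good2 (T A : Subgroup P) [hAn : A.Normal] (hAT : A ≤ T)
    (hA3 : ⁅A, T⁆ ≤ A ⊓ Subgroup.centralizer (A : Set P))
    (h1 : ∀ g : P, ⁅⁅A, Subgroup.zpowers g⁆, Subgroup.zpowers g⁆ ≤
        A ⊓ Subgroup.centralizer (A : Set P) →
      ⁅⁅A ⊓ Subgroup.centralizer (A : Set P), Subgroup.zpowers g⁆, Subgroup.zpowers g⁆ = ⊥ →
        g ∈ T)
    (h3 : ∀ Q B : Subgroup P, A ≤ Q → B ∈ kLowerStarFamily Q → B ≤ T) :
    ∀ n : ℕ, kSeqEven P n ≤ T ∧ kSeqOdd P (n + 1) ≤ T := by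
  have hclassA : A ∈ classTwoSubgroups P :=
    ((Subgroup.commutator_mono le_rfl hAT).trans hA3).trans inf_le_right
  have hANtop : ∀ Q : Subgroup P, Q ≤ Subgroup.normalizer (A : Set P) := fun Q => by
    rw [Subgroup.normalizer_eq_top]; exact le_top
  have hAlow : ∀ Q : Subgroup P, A ∈ kLowerStarFamily Q := by
    intro Q
    refine ⟨hclassA, hANtop Q, ?_⟩
    intro A₁ hA₁ _ hAN hc1 hc2
    have hA₁T : A₁ ≤ T := by
      intro g hg
      have hgA : Subgroup.zpowers g ≤ A₁ := (Subgroup.zpowers_le).mpr hg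
      apply h1 g
      · apply le_inf
        · exact (Subgroup.commutator_mono (Subgroup.commutator_le_left A _) le_rfl).trans
            (Subgroup.commutator_le_left A _)
        · have h4 : ⁅A, Subgroup.zpowers g⁆ ≤ A₁ :=
            (Subgroup.commutator_mono le_rfl hgA).trans (commutator_le_right_of_le_normalizer hAN)
          have h5 : ⁅⁅A₁, A₁⁆, A⁆ = ⊥ := by rw [Subgroup.commutator_comm]; exact hc1
          rw [Subgroup.commutator_eq_bot_iff_le_centralizer] at h5
          exact (Subgroup.commutator_mono h4 hgA).trans h5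
      · exact le_bot_iff.mp (hc2 ▸
          Subgroup.commutator_mono (Subgroup.commutator_mono le_rfl hgA) hgA)
    exact (Subgroup.commutator_mono le_rfl hA₁T).trans hA3
  have hAeven : ∀ n, A ≤ kSeqEven P n := fun n => le_sSup (hAlow _)
  have hodd : ∀ n, kSeqOdd P (n + 1) ≤ T := by
    intro n
    show sSup (kUpperStarFamily (kSeqEven P n)) ≤ T
    apply sSup_le
    intro B hB g hg
    have hBA : ⁅B, A⁆ ≤ B ⊓ Subgroup.centralizer (B : Set P) :=
      (Subgroup.commutator_mono le_rfl (hAeven n)).trans hB.2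
    apply h1 g
    · rw [quad_zpowers_of_comm_le B A hBA hg]; exact bot_le
    · exact quad_zpowers_of_comm_le B _
        ((Subgroup.commutator_mono le_rfl inf_le_left).trans hBA) hg
  have heven_step : ∀ n, A ≤ kSeqOdd P n → kSeqEven P n ≤ T := by
    intro n hAodd
    apply sSup_le
    intro B hB
    exact h3 _ B hAodd hB
  have heven : ∀ n, kSeqEven P n ≤ T := by
    intro n
    induction n with
    | zero => exact heven_step 0 le_top
    | succ m ih =>
      apply heven_step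
      show A ≤ sSup (kUpperStarFamily (kSeqEven P m))
      exact le_sSup ⟨hclassA, (Subgroup.commutator_mono le_rfl ih).trans hA3⟩
  exact fun n => ⟨heven n, hodd n⟩

end KP2

section ESub

variable {G : Type*} [Group G]

/-- the elements of the class two group `A` whose commutators with `A` centralize `B`. -/
def eSub (A B : Subgroup G) (hA : ⁅A, A⁆ ≤ Subgroup.centralizer (A : Set G)) : Subgroup G where
  carrier := {a | a ∈ A ∧ ∀ x ∈ A, ⁅a, x⁆ ∈ Subgroup.centralizer (B : Set G)}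
  one_mem' := ⟨A.one_mem, fun x _ => by
    rw [commutatorElement_one_left]; exact Subgroup.one_mem _⟩
  mul_mem' := by
    rintro a₁ a₂ ⟨h1, h1'⟩ ⟨h2, h2'⟩
    refine ⟨A.mul_mem h1 h2, fun x hx => ?_⟩
    have hc : ⁅a₂, x⁆ ∈ Subgroup.centralizer (A : Set G) :=
      hA (Subgroup.commutator_mem_commutator h2 hx)
    have hc' : a₁ * ⁅a₂, x⁆ = ⁅a₂, x⁆ * a₁ := (Subgroup.mem_centralizer_iff.mp hc) a₁ h1
    have e : ⁅a₁ * a₂, x⁆ = a₁ * ⁅a₂, x⁆ * a₁⁻¹ * ⁅a₁, x⁆ := by
      simp only [commutatorElement_def]; group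
    rw [e, hc', mul_inv_cancel_right]
    exact Subgroup.mul_mem _ (h2' x hx) (h1' x hx)
  inv_mem' := by
    rintro a ⟨h1, h1'⟩
    refine ⟨A.inv_mem h1, fun x hx => ?_⟩
    have hc : ⁅a, x⁆⁻¹ ∈ Subgroup.centralizer (A : Set G) :=
      Subgroup.inv_mem _ (hA (Subgroup.commutator_mem_commutator h1 hx))
    have hc' : a * ⁅a, x⁆⁻¹ = ⁅a, x⁆⁻¹ * a := (Subgroup.mem_centralizer_iff.mp hc) a h1
    have e : ⁅a⁻¹, x⁆ = a⁻¹ * (⁅a, x⁆⁻¹ * a) := by
      simp only [commutatorElement_def]; group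
    rw [e, ← hc', inv_mul_cancel_left]
    exact Subgroup.inv_mem _ (h1' x hx)

theorem eSub_le (A B : Subgroup G) (hA : ⁅A, A⁆ ≤ Subgroup.centralizer (A : Set G)) :
    eSub A B hA ≤ A := fun _ h => h.1

theorem center_le_eSub (A B : Subgroup G) (hA : ⁅A, A⁆ ≤ Subgroup.centralizer (A : Set G)) :
    A ⊓ Subgroup.centralizer (A : Set G) ≤ eSub A B hA := by
  rintro a ⟨haA, haC⟩
  refine ⟨haA, fun x hx => ?_⟩
  have h1 : x * a = a * x := (Subgroup.mem_centralizer_iff.mp haC) x hx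
  have h2 : ⁅a, x⁆ = 1 := by
    rw [commutatorElement_eq_one_iff_commute]; exact h1.symm
  rw [h2]; exact Subgroup.one_mem _

/-- an element fixing, under conjugation, the commutators of `A` that centralize `B` normalizes
`eSub A B`. -/
theorem mem_normalizer_eSub [Finite G] (A B : Subgroup G) [hAn : A.Normal]
    (hA : ⁅A, A⁆ ≤ Subgroup.centralizer (A : Set G)) (g : G)
    (hg : ∀ c ∈ ⁅A, A⁆, c ∈ Subgroup.centralizer (B : Set G) →
      g * c * g⁻¹ ∈ Subgroup.centralizer (B : Set G)) :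
    g ∈ Subgroup.normalizer ((eSub A B hA : Subgroup G) : Set G) := by
  apply mem_normalizer_of_cj_le
  intro y hy
  rw [mem_cj] at hy
  obtain ⟨hyA, hyC⟩ := hy
  refine ⟨?_, fun x hx => ?_⟩
  · have := hAn.conj_mem _ hyA g
    have e : g * (g⁻¹ * y * g) * g⁻¹ = y := by group
    rwa [e] at this
  · have hx' : g⁻¹ * x * g ∈ A := by
      have := hAn.conj_mem x hx g⁻¹
      simpa using this
    have e : ⁅y, x⁆ = g * ⁅g⁻¹ * y * g, g⁻¹ * x * g⁆ * g⁻¹ := by
      simp only [commutatorElement_def]; group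
    rw [e]
    exact hg _ (Subgroup.commutator_mem_commutator hyA hx') (hyC _ hx')

end ESub

section KStab

variable {G : Type*} [Group G] [Finite G] {p : ℕ} [Fact p.Prime]

theorem mem_normalizer_inf' (H K : Subgroup G) (x : G)
    (hH : x ∈ Subgroup.normalizer (H : Set G)) (hK : x ∈ Subgroup.normalizer (K : Set G)) :
    x ∈ Subgroup.normalizer ((H ⊓ K : Subgroup G) : Set G) := by
  rw [Subgroup.mem_normalizer_iff]
  intro h
  rw [Subgroup.mem_inf, Subgroup.mem_inf, ← (Subgroup.mem_normalizer_iff.mp hH) h,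
    ← (Subgroup.mem_normalizer_iff.mp hK) h]

theorem pCoreOf_le_pCore_of_normal (L : Subgroup G) [hL : L.Normal] :
    pCoreOf p L ≤ pCore p G := by
  have h := normalizer_le_normalizer_pCoreOf p L
  rw [Subgroup.normalizer_eq_top_iff.mpr hL] at h
  exact le_pCore (Subgroup.normalizer_eq_top_iff.mp (top_le_iff.mp h)) (pCoreOf_isPGroup' p L)

/-- an element of order prime to `p` centralizing the self-centralizing normal subgroup `A` of
`O_p(G)` is trivial when `C_G(O_p(G)) ≤ O_p(G)`. -/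
theorem coprime_centralizer_eq_one (A : Subgroup G) [hAn : A.Normal]
    (hA4 : pCore p G ⊓ Subgroup.centralizer (A : Set G) ≤ A)
    (hC : Subgroup.centralizer ((pCore p G : Subgroup G) : Set G) ≤ pCore p G)
    {y : G} (hy : (orderOf y).Coprime p) (hyA : y ∈ Subgroup.centralizer (A : Set G)) :
    y = 1 := by
  have hTn := pCore_normal' p G
  have hTp := pCore_isPGroup p G
  have hyA' : ∀ a ∈ A, a * y = y * a := Subgroup.mem_centralizer_iff.mp hyA
  have hyT : y ∈ Subgroup.centralizer ((pCore p G : Subgroup G) : Set G) := by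
    rw [Subgroup.mem_centralizer_iff]
    intro t ht
    have hcT : t * y * t⁻¹ * y⁻¹ ∈ pCore p G := by
      have h1 : y * t⁻¹ * y⁻¹ ∈ pCore p G := hTn.conj_mem _ (inv_mem ht) y
      have h2 := mul_mem ht h1
      have e : t * (y * t⁻¹ * y⁻¹) = t * y * t⁻¹ * y⁻¹ := by group
      rwa [e] at h2
    have hcA : t * y * t⁻¹ * y⁻¹ ∈ Subgroup.centralizer (A : Set G) := by
      rw [Subgroup.mem_centralizer_iff]
      intro a ha
      have h1 : t⁻¹ * a * t ∈ A := by
        have := hAn.conj_mem a ha t⁻¹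
        simpa using this
      have h2 := hyA' _ h1
      have h3 : a * y⁻¹ = y⁻¹ * a := (Commute.inv_right (hyA' a ha : Commute a y)).eq
      calc a * (t * y * t⁻¹ * y⁻¹) = t * ((t⁻¹ * a * t) * y) * t⁻¹ * y⁻¹ := by group
        _ = t * (y * (t⁻¹ * a * t)) * t⁻¹ * y⁻¹ := by rw [h2]
        _ = t * y * t⁻¹ * (a * y⁻¹) := by group
        _ = t * y * t⁻¹ * (y⁻¹ * a) := by rw [h3]
        _ = t * y * t⁻¹ * y⁻¹ * a := by group
    have hcy : Commute (t * y * t⁻¹ * y⁻¹) y := hyA' _ (hA4 ⟨hcT, hcA⟩)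
    exact (commute_of_coprime_of_commutator hy hcy (exists_pow_of_isPGroup hTp hcT)).eq
  exact eq_one_of_isPGroup_of_coprime hTp (hC hyT) hy

/-- the `p`-group criterion: an element of `K` acting quadratically on the `K`-invariant
subgroup `N` of `A` and on `A` modulo `N` lies in `O_p(K)`, when all sections are `p`-stable. -/
theorem mem_pCoreOf_of_quad
    (hst : ∀ (K R : Subgroup G) [hR : (R.subgroupOf K).Normal],
      IsNormalizerPStable p (↥K ⧸ R.subgroupOf K))
    (hC : Subgroup.centralizer ((pCore p G : Subgroup G) : Set G) ≤ pCore p G)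
    (A : Subgroup G) [hAn : A.Normal] (hAT : A ≤ pCore p G)
    (hA4 : pCore p G ⊓ Subgroup.centralizer (A : Set G) ≤ A)
    (K N : Subgroup G) (hNA : N ≤ A) (hAK : A ≤ K) (hKN : K ≤ Subgroup.normalizer (N : Set G))
    (g : G) (hgK : g ∈ K)
    (hq1 : ⁅⁅N, Subgroup.zpowers g⁆, Subgroup.zpowers g⁆ = ⊥)
    (hq2 : ⁅⁅A, Subgroup.zpowers g⁆, Subgroup.zpowers g⁆ ≤ N) :
    g ∈ pCoreOf p K := by
  have hTp := pCore_isPGroup p G
  have hNp : ∀ x ∈ N, ∃ k : ℕ, x ^ p ^ k ∈ (⊥ : Subgroup G) := by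
    intro x hx
    obtain ⟨b, hb⟩ := exists_pow_of_isPGroup hTp (hAT (hNA hx))
    exact ⟨b, by rw [hb]; exact Subgroup.one_mem _⟩
  obtain ⟨O₁, -, hO₁n, hO₁c, hO₁g⟩ := psi_sub (⊤ : Subgroup G) ⊥ N (hst ⊤ ⊥) le_top hNp
  have hNK : N ≤ K := hNA.trans hAK
  haveI : (N.subgroupOf K).Normal := (Subgroup.normal_subgroupOf_iff_le_normalizer hNK).mpr hKN
  have hAp : ∀ x ∈ A, ∃ k : ℕ, x ^ p ^ k ∈ N := by
    intro x hx
    obtain ⟨b, hb⟩ := exists_pow_of_isPGroup hTp (hAT hx)
    exact ⟨b, by rw [hb]; exact Subgroup.one_mem _⟩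
  obtain ⟨O₂, hO₂K, hO₂n, hO₂c, hO₂g⟩ := psi_sub K N A (hst K N) hAK hAp
  have hAtop : Subgroup.normalizer (A : Set G) = ⊤ := Subgroup.normalizer_eq_top _
  have hKO : K ≤ Subgroup.normalizer ((O₁ ⊓ O₂ : Subgroup G) : Set G) := by
    intro x hx
    exact mem_normalizer_inf' O₁ O₂ x (hO₁n ⟨Subgroup.mem_top x, hKN hx⟩)
      (hO₂n ⟨hx, by rw [hAtop]; exact Subgroup.mem_top x⟩)
  have hOp : IsPGroup p ↥(O₁ ⊓ O₂ : Subgroup G) := by
    apply isPGroup_of_coprime_trivial
    intro y hy hyc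
    apply coprime_centralizer_eq_one A hA4 hC hyc
    rw [Subgroup.mem_centralizer_iff]
    intro x hx
    have hcN : ⁅x, y⁆ ∈ N := hO₂c y hy.2 hyc x hx
    have hcy : Commute ⁅x, y⁆ y := by
      have := hO₁c y hy.1 hyc _ hcN
      rw [Subgroup.mem_bot, commutatorElement_eq_one_iff_commute] at this
      exact this
    rw [commutatorElement_def] at hcy hcN
    exact (commute_of_coprime_of_commutator hyc hcy
      (exists_pow_of_isPGroup hTp (hAT (hNA hcN)))).eq
  refine le_pCoreOf' (inf_le_right.trans hO₂K) hKO hOp ⟨?_, ?_⟩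
  · exact hO₁g g ⟨Subgroup.mem_top g, hKN hgK⟩ (by rw [hq1])
  · exact hO₂g g ⟨hgK, by rw [hAtop]; exact Subgroup.mem_top g⟩ hq2

/-- elements acting quadratically on `A / Z(A)` and on `Z(A)` lie in `O_p(G)`. -/
theorem mem_pCore_of_quad
    (hst : ∀ (K R : Subgroup G) [hR : (R.subgroupOf K).Normal],
      IsNormalizerPStable p (↥K ⧸ R.subgroupOf K))
    (hC : Subgroup.centralizer ((pCore p G : Subgroup G) : Set G) ≤ pCore p G)
    (A : Subgroup G) [hAn : A.Normal] (hAT : A ≤ pCore p G)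
    (hA4 : pCore p G ⊓ Subgroup.centralizer (A : Set G) ≤ A) (g : G)
    (hq2 : ⁅⁅A, Subgroup.zpowers g⁆, Subgroup.zpowers g⁆ ≤
      A ⊓ Subgroup.centralizer (A : Set G))
    (hq1 : ⁅⁅A ⊓ Subgroup.centralizer (A : Set G), Subgroup.zpowers g⁆, Subgroup.zpowers g⁆ = ⊥) :
    g ∈ pCore p G := by
  have h := mem_pCoreOf_of_quad hst hC A hAT hA4 ⊤ (A ⊓ Subgroup.centralizer (A : Set G))
    inf_le_left le_top (by rw [Subgroup.normalizer_eq_top]) g (Subgroup.mem_top g) hq1 hq2
  exact pCoreOf_le_pCore_of_normal ⊤ h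

/-- a normal subgroup whose elements of order prime to `p` are central in it modulo `O_p(G)`
has all its `p`-subgroups inside `O_p(G)`. -/
theorem pgroup_le_pCore_of_central (Y : Subgroup G) [hYn : Y.Normal]
    (h : ∀ w ∈ Y, (orderOf w).Coprime p → ∀ x ∈ Y, ⁅w, x⁆ ∈ pCore p G)
    (B : Subgroup G) (hBY : B ≤ Y) (hB : IsPGroup p ↥B) : B ≤ pCore p G := by
  haveI hTn := pCore_normal' p G
  have hTp := pCore_isPGroup p G
  obtain ⟨Sy⟩ : Nonempty (Sylow p ↥Y) := inferInstance
  have hT'Sy : (pCore p G).subgroupOf Y ≤ (Sy : Subgroup ↥Y) :=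
    IsPGroup.le_sylow_of_normal hTp.comap_subtype Sy
  have hW : ∀ w : ↥Y, (orderOf w).Coprime p →
      w ∈ Subgroup.normalizer (((Sy : Subgroup ↥Y) : Subgroup ↥Y) : Set ↥Y) := by
    intro w hw
    apply mem_normalizer_of_cj_le
    intro y hy
    rw [mem_cj] at hy
    have h1 : ⁅w, w⁻¹ * y * w⁆ ∈ (pCore p G).subgroupOf Y := by
      rw [Subgroup.mem_subgroupOf]
      have := h (w : G) w.2 (by rw [Subgroup.orderOf_coe]; exact hw) ((w⁻¹ * y * w : ↥Y) : G)
        (w⁻¹ * y * w).2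
      exact this
    have h2 := Subgroup.mul_mem _ (hT'Sy h1) hy
    have e : ⁅w, w⁻¹ * y * w⁆ * (w⁻¹ * y * w) = y := by
      simp only [commutatorElement_def]; group
    rwa [e] at h2
  obtain ⟨W, hWdef⟩ : ∃ W : Subgroup ↥Y,
      W = Subgroup.closure {x : ↥Y | (orderOf x).Coprime p} := ⟨_, rfl⟩
  haveI hWn : W.Normal := by
    rw [hWdef]
    apply closure_normal_of_conj_mem
    intro x hx g
    show (orderOf (g * x * g⁻¹)).Coprime p
    rw [orderOf_conj_eq]; exact hx
  have hWN : W ≤ Subgroup.normalizer (((Sy : Subgroup ↥Y) : Subgroup ↥Y) : Set ↥Y) := by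
    rw [hWdef, Subgroup.closure_le]
    intro x hx
    exact hW x hx
  have hquot : IsPGroup p (↥Y ⧸ W) := by
    intro q
    induction q using QuotientGroup.induction_on with
    | H x =>
      obtain ⟨a, ha⟩ := exists_pow_coprime_order p x
      refine ⟨a, ?_⟩
      rw [← QuotientGroup.mk_pow]
      apply (QuotientGroup.eq_one_iff _).mpr
      rw [hWdef]
      exact Subgroup.subset_closure ha
  obtain ⟨n, hn⟩ := IsPGroup.iff_card.mp hquot
  have hidx1 : (Subgroup.normalizer (((Sy : Subgroup ↥Y) : Subgroup ↥Y) : Set ↥Y)).index ∣ p ^ n := by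
    rw [← hn, ← Subgroup.index_eq_card]
    exact Subgroup.index_dvd_of_le hWN
  have hidx2 : ¬ p ∣ (Subgroup.normalizer (((Sy : Subgroup ↥Y) : Subgroup ↥Y) : Set ↥Y)).index := by
    intro hdvd
    exact Sy.not_dvd_index (hdvd.trans (Subgroup.index_dvd_of_le Subgroup.le_normalizer))
  have hidx : (Subgroup.normalizer (((Sy : Subgroup ↥Y) : Subgroup ↥Y) : Set ↥Y)).index = 1 := by
    obtain ⟨k, -, hk⟩ := (Nat.dvd_prime_pow (Fact.out : p.Prime)).mp hidx1
    rcases Nat.eq_zero_or_pos k with h0 | h0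
    · rw [hk, h0, pow_zero]
    · exact absurd (hk ▸ dvd_pow_self p h0.ne') hidx2
  haveI hSyn : (Sy : Subgroup ↥Y).Normal :=
    Subgroup.normalizer_eq_top_iff.mp (Subgroup.index_eq_one.mp hidx)
  have hU : ∀ B₀ : Subgroup G, B₀ ≤ Y → IsPGroup p ↥B₀ →
      B₀ ≤ (Sy : Subgroup ↥Y).map Y.subtype := by
    intro B₀ hB₀Y hB₀
    have h1 : IsPGroup p ↥(B₀.subgroupOf Y ⊔ (Sy : Subgroup ↥Y) : Subgroup ↥Y) :=
      IsPGroup.to_sup_of_normal_right hB₀.comap_subtype Sy.2
    have h2 := Sy.is_maximal' h1 le_sup_right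
    have h3 : B₀.subgroupOf Y ≤ (Sy : Subgroup ↥Y) := by
      rw [← h2]; exact le_sup_left
    have h4 := Subgroup.map_mono (f := Y.subtype) h3
    rwa [Subgroup.map_subgroupOf_eq_of_le hB₀Y] at h4
  have hSyY : (Sy : Subgroup ↥Y).map Y.subtype ≤ Y := Subgroup.map_subtype_le _
  have hSyp : IsPGroup p ↥((Sy : Subgroup ↥Y).map Y.subtype) := Sy.2.map _
  have hSyGn : ((Sy : Subgroup ↥Y).map Y.subtype).Normal := by
    rw [← Subgroup.normalizer_eq_top_iff, eq_top_iff]
    intro g _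
    apply mem_normalizer_of_cj_le
    apply hU _ _ (isPGroup_cj hSyp)
    have := cj_mono (g := g) hSyY
    rwa [cj_eq_of_normal g Y] at this
  exact (hU B hBY hB).trans (le_pCore hSyGn hSyp)

/-- the members of the lower-star families relative to subgroups containing the critical
subgroup `A` lie in `O_p(G)`, when all sections are `p`-stable and `C_G(O_p(G)) ≤ O_p(G)`. -/
theorem kLower_le_pCore
    (hst : ∀ (K R : Subgroup G) [hR : (R.subgroupOf K).Normal],
      IsNormalizerPStable p (↥K ⧸ R.subgroupOf K))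
    (hC : Subgroup.centralizer ((pCore p G : Subgroup G) : Set G) ≤ pCore p G)
    (A : Subgroup G) [hAn : A.Normal] (hAT : A ≤ pCore p G)
    (hA3 : ⁅A, pCore p G⁆ ≤ A ⊓ Subgroup.centralizer (A : Set G))
    (hA4 : pCore p G ⊓ Subgroup.centralizer (A : Set G) ≤ A)
    (Q B : Subgroup G) (hAQ : A ≤ Q) (hB : B ∈ kLowerStarFamily Q) (hBp : IsPGroup p ↥B) :
    B ≤ pCore p G := by
  haveI hTn := pCore_normal' p G
  have hTp := pCore_isPGroup p G
  have hclassA : ⁅A, A⁆ ≤ Subgroup.centralizer (A : Set G) :=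
    ((Subgroup.commutator_mono le_rfl hAT).trans hA3).trans inf_le_right
  obtain ⟨hB2, hQB, hBtest⟩ := hB
  have hB2' : ⁅B, B⁆ ≤ Subgroup.centralizer (B : Set G) := hB2
  have hAB : A ≤ Subgroup.normalizer (B : Set G) := hAQ.trans hQB
  have hZc := inf_centralizer_isMulCommutative A
  haveI hZn : (A ⊓ Subgroup.centralizer (A : Set G)).Normal := inferInstance
  have h0 : ⁅A ⊓ Subgroup.centralizer (A : Set G), A ⊓ Subgroup.centralizer (A : Set G)⁆ = ⊥ := by
    rw [Subgroup.commutator_eq_bot_iff_le_centralizer]; exact abelian_le_centralizer _ hZc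
  -- the centre of `B` lies in `O_p(G)`
  have hZBT : B ⊓ Subgroup.centralizer (B : Set G) ≤ pCore p G := by
    intro z hz
    have hzB : Subgroup.zpowers z ≤ B := (Subgroup.zpowers_le).mpr hz.1
    have hzC : Subgroup.zpowers z ≤ Subgroup.centralizer (B : Set G) :=
      (Subgroup.zpowers_le).mpr hz.2
    have h1 : ⁅A, Subgroup.zpowers z⁆ ≤ B :=
      (Subgroup.commutator_mono le_rfl hzB).trans (commutator_le_right_of_le_normalizer hAB)
    have h2 : ⁅B, Subgroup.zpowers z⁆ = ⊥ := by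
      rw [Subgroup.commutator_comm, Subgroup.commutator_eq_bot_iff_le_centralizer]; exact hzC
    have h3 : ⁅⁅A, Subgroup.zpowers z⁆, Subgroup.zpowers z⁆ = ⊥ :=
      le_bot_iff.mp (h2 ▸ Subgroup.commutator_mono h1 le_rfl)
    apply mem_pCore_of_quad hst hC A hAT hA4 z
    · rw [h3]; exact bot_le
    · exact le_bot_iff.mp (h3 ▸
        Subgroup.commutator_mono (Subgroup.commutator_mono inf_le_left le_rfl) le_rfl)
  -- `B` acts quadratically on `Z(A)`
  have hBZ : ⁅B, A ⊓ Subgroup.centralizer (A : Set G)⁆ ≤ B ⊓ Subgroup.centralizer (B : Set G) :=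
    hBtest (A ⊓ Subgroup.centralizer (A : Set G)) (abelian_mem_classTwo _ hZc)
      (inf_le_left.trans hAQ) (by rw [Subgroup.normalizer_eq_top]; exact le_top)
      (by rw [h0, Subgroup.commutator_bot_right])
      (le_bot_iff.mp (h0 ▸ Subgroup.commutator_mono (Subgroup.commutator_le_right _ _) le_rfl))
  -- the subgroup `E`
  obtain ⟨E, hEdef⟩ : ∃ E : Subgroup G, E = eSub A B hclassA := ⟨_, rfl⟩
  have hEA : E ≤ A := hEdef ▸ eSub_le A B hclassA
  have hEclass : E ∈ classTwoSubgroups G :=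
    ((Subgroup.commutator_mono hEA hEA).trans hclassA).trans (Subgroup.centralizer_le hEA)
  have hfix : ∀ g : G, (∀ c ∈ ⁅A, A⁆, c ∈ Subgroup.centralizer (B : Set G) → g * c * g⁻¹ = c) →
      g ∈ Subgroup.normalizer (E : Set G) := by
    intro g hg
    rw [hEdef]
    apply mem_normalizer_eSub
    intro c hc hcB
    rw [hg c hc hcB]; exact hcB
  have hBE : B ≤ Subgroup.normalizer (E : Set G) := by
    intro b hb
    apply hfix
    intro c _ hcB
    have h1 : b * c = c * b := (Subgroup.mem_centralizer_iff.mp hcB) b hb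
    rw [h1, mul_inv_cancel_right]
  have hAE : A ≤ Subgroup.normalizer (E : Set G) := by
    intro a ha
    apply hfix
    intro c hc _
    have h1 : a * c = c * a := (Subgroup.mem_centralizer_iff.mp (hclassA hc)) a ha
    rw [h1, mul_inv_cancel_right]
  have hcomZ : ⁅A, A⁆ ≤ A ⊓ Subgroup.centralizer (A : Set G) :=
    le_inf (Subgroup.commutator_le_left A A) hclassA
  have hLE : Subgroup.centralizer ((A ⊓ Subgroup.centralizer (A : Set G) : Subgroup G) : Set G) ≤
      Subgroup.normalizer (E : Set G) := by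
    intro l hl
    apply hfix
    intro c hc _
    have h1 : c * l = l * c := (Subgroup.mem_centralizer_iff.mp hl) c (hcomZ hc)
    rw [← h1, mul_inv_cancel_right]
  have hc1 : ⁅B, ⁅E, E⁆⁆ = ⊥ := by
    rw [Subgroup.commutator_comm, Subgroup.commutator_eq_bot_iff_le_centralizer,
      Subgroup.commutator_le]
    intro a ha x hx
    rw [hEdef] at ha
    exact ha.2 x (hEA hx)
  have hTA : ⁅pCore p G, A⁆ ≤ A ⊓ Subgroup.centralizer (A : Set G) := by
    rw [Subgroup.commutator_comm]; exact hA3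
  have hc2 : ⁅⁅B ⊓ Subgroup.centralizer (B : Set G), E⁆, E⁆ = ⊥ := by
    have h1 : ⁅B ⊓ Subgroup.centralizer (B : Set G), E⁆ ≤ A ⊓ Subgroup.centralizer (A : Set G) :=
      (Subgroup.commutator_mono hZBT hEA).trans hTA
    have h2 : ⁅A ⊓ Subgroup.centralizer (A : Set G), A⁆ = ⊥ := by
      rw [Subgroup.commutator_eq_bot_iff_le_centralizer]; exact inf_le_right
    exact le_bot_iff.mp (h2 ▸ Subgroup.commutator_mono h1 hEA)
  have hBEZ : ⁅B, E⁆ ≤ B ⊓ Subgroup.centralizer (B : Set G) :=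
    hBtest E hEclass (hEA.trans hAQ) hBE hc1 hc2
  -- `B` lies in `O_p(N_G(E))`
  have hBPi : B ≤ pCoreOf p (Subgroup.normalizer (E : Set G)) := by
    intro b hb
    have hbB : Subgroup.zpowers b ≤ B := (Subgroup.zpowers_le).mpr hb
    apply mem_pCoreOf_of_quad hst hC A hAT hA4 (Subgroup.normalizer (E : Set G)) E hEA hAE
      le_rfl b (hBE hb) (quad_zpowers_of_comm_le B E hBEZ hb)
    have h1 : ⁅A, Subgroup.zpowers b⁆ ≤ B :=
      (Subgroup.commutator_mono le_rfl hbB).trans (commutator_le_right_of_le_normalizer hAB)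
    have h2 : ⁅⁅A, Subgroup.zpowers b⁆, Subgroup.zpowers b⁆ ≤ A :=
      (Subgroup.commutator_mono (Subgroup.commutator_le_left A _) le_rfl).trans
        (Subgroup.commutator_le_left A _)
    have h3 : ⁅⁅A, Subgroup.zpowers b⁆, Subgroup.zpowers b⁆ ≤ ⁅B, B⁆ :=
      Subgroup.commutator_mono h1 hbB
    intro d hd
    have hdA : d ∈ A := h2 hd
    have hdC : d ∈ Subgroup.centralizer (B : Set G) := hB2' (h3 hd)
    rw [hEdef]
    refine ⟨hdA, fun x hx => ?_⟩
    have hxN : x ∈ Subgroup.normalizer (B : Set G) := hAB hx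
    have h4 : x * d⁻¹ * x⁻¹ ∈ Subgroup.centralizer (B : Set G) := by
      have h5 := conj_mem_cj (g := x) (Subgroup.inv_mem _ hdC)
      rwa [← centralizer_cj, cj_eq_self_of_mem_normalizer hxN] at h5
    have e : ⁅d, x⁆ = d * (x * d⁻¹ * x⁻¹) := by
      simp only [commutatorElement_def]; group
    rw [e]
    exact Subgroup.mul_mem _ hdC h4
  -- commutators of `B` with `C_G(Z(A))` lie in `O_p(G)`
  have hcomm : ∀ l ∈ Subgroup.centralizer ((A ⊓ Subgroup.centralizer (A : Set G) : Subgroup G) : Set G),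
      ∀ b ∈ B, ⁅l, b⁆ ∈ pCore p G := by
    intro l hl b hb
    have hlN : l ∈ Subgroup.normalizer
        ((pCoreOf p (Subgroup.normalizer (E : Set G)) : Subgroup G) : Set G) :=
      le_normalizer_pCoreOf p _ (hLE hl)
    have h1 : ⁅l, b⁆ ∈ pCoreOf p (Subgroup.normalizer (E : Set G)) := by
      rw [commutatorElement_def]
      exact Subgroup.mul_mem _ ((Subgroup.mem_normalizer_iff.mp hlN b).mp (hBPi hb))
        (Subgroup.inv_mem _ (hBPi hb))
    have h2 : ⁅l, b⁆ ∈ Subgroup.centralizer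
        ((A ⊓ Subgroup.centralizer (A : Set G) : Subgroup G) : Set G) := by
      have hLn : (Subgroup.centralizer
          ((A ⊓ Subgroup.centralizer (A : Set G) : Subgroup G) : Set G)).Normal := inferInstance
      have e : ⁅l, b⁆ = l * (b * l⁻¹ * b⁻¹) := by
        simp only [commutatorElement_def]; group
      rw [e]
      exact Subgroup.mul_mem _ hl (hLn.conj_mem _ (Subgroup.inv_mem _ hl) b)
    have h3 : pCoreOf p (Subgroup.normalizer (E : Set G)) ⊓ Subgroup.centralizer
        ((A ⊓ Subgroup.centralizer (A : Set G) : Subgroup G) : Set G) ≤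
        pCoreOf p (Subgroup.centralizer
          ((A ⊓ Subgroup.centralizer (A : Set G) : Subgroup G) : Set G)) := by
      apply le_pCoreOf' inf_le_right
      · intro x hx
        exact mem_normalizer_inf' _ _ x (le_normalizer_pCoreOf p _ (hLE hx))
          (Subgroup.le_normalizer hx)
      · exact (pCoreOf_isPGroup' p _).to_le inf_le_left
    exact pCoreOf_le_pCore_of_normal _ (h3 ⟨h1, h2⟩)
  -- the normal subgroup attached to `Z(A)`
  have hZp : ∀ x ∈ A ⊓ Subgroup.centralizer (A : Set G), ∃ k : ℕ, x ^ p ^ k ∈ (⊥ : Subgroup G) := by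
    intro x hx
    obtain ⟨b, hb⟩ := exists_pow_of_isPGroup hTp (hAT hx.1)
    exact ⟨b, by rw [hb]; exact Subgroup.one_mem _⟩
  obtain ⟨O₃, -, hO₃n, hO₃c, hO₃g⟩ := psi_sub (⊤ : Subgroup G) ⊥
    (A ⊓ Subgroup.centralizer (A : Set G)) (hst ⊤ ⊥) le_top hZp
  have hZtop : Subgroup.normalizer ((A ⊓ Subgroup.centralizer (A : Set G) : Subgroup G) : Set G) = ⊤ :=
    Subgroup.normalizer_eq_top _
  rw [hZtop, top_inf_eq] at hO₃n hO₃g
  haveI hO₃normal : O₃.Normal := Subgroup.normalizer_eq_top_iff.mp (top_le_iff.mp hO₃n)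
  haveI hLn : (Subgroup.centralizer
      ((A ⊓ Subgroup.centralizer (A : Set G) : Subgroup G) : Set G)).Normal := inferInstance
  apply pgroup_le_pCore_of_central (O₃ ⊓ stabMod (Subgroup.centralizer
      ((A ⊓ Subgroup.centralizer (A : Set G) : Subgroup G) : Set G)) (pCore p G)) ?_ B ?_ hBp
  · intro w hw hwc x hx
    have hwL : w ∈ Subgroup.centralizer
        ((A ⊓ Subgroup.centralizer (A : Set G) : Subgroup G) : Set G) := by
      rw [Subgroup.mem_centralizer_iff]
      intro z hz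
      have h1 := hO₃c w hw.1 hwc z hz
      rw [Subgroup.mem_bot, commutatorElement_eq_one_iff_commute] at h1
      exact h1
    exact hx.2 w hwL
  · intro b hb
    refine ⟨hO₃g b (Subgroup.mem_top b) ?_, fun l hl => hcomm l hl b hb⟩
    rw [quad_zpowers_of_comm_le B _ hBZ hb]

end KStab

end Cfsg.Agent.Helper13
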