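import Mathlib
import Cfsg.Agent.Helper13.KStab
import Cfsg.Agent.Helper13.Fusion5
import Cfsg.Agent.Helper13.Cubic2

set_option autoImplicit false
universe u

namespace Cfsg.Agent.Helper13

open Cfsg Cfsg.Agent.Helper17
open scoped commutatorElement

section Cliff

variable {G : Type*} [Group G]

/-- `W` is a `Λ`-invariant subgroup between `V` and `U`. -/
def InvSub (U V Λ W : Subgroup G) : Prop :=
  V ≤ W ∧ W ≤ U ∧ Λ ≤ Subgroup.normalizer (W : Set G)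

/-- `X` is minimal among the `Λ`-invariant subgroups between `V` and `U` different from `V`. -/
def IrrSub (U V Λ X : Subgroup G) : Prop :=
  InvSub U V Λ X ∧ X ≠ V ∧ ∀ Y : Subgroup G, InvSub U V Λ Y → Y ≤ X → Y = V ∨ Y = X

/-- `X` is generated by the `Λ`-irreducible subgroups inside it. -/
def SSJoin (U V Λ X : Subgroup G) : Prop :=
  ∀ Y : Subgroup G, (∀ X' : Subgroup G, IrrSub U V Λ X' → X' ≤ X → X' ≤ Y) → X ≤ Y

variable [Finite G]

theorem invSub_cj {U V Λ W : Subgroup G} {γ : G} (hγV : γ ∈ Subgroup.normalizer (V : Set G))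
    (hγΛ : γ ∈ Subgroup.normalizer (Λ : Set G)) (hW : InvSub U V Λ W) (hle : cj γ W ≤ U) :
    InvSub U V Λ (cj γ W) := by
  refine ⟨?_, hle, ?_⟩
  · have := cj_mono (g := γ) hW.1
    rwa [cj_eq_self_of_mem_normalizer hγV] at this
  · rw [normalizer_cj]
    have := cj_mono (g := γ) hW.2.2
    rwa [cj_eq_self_of_mem_normalizer hγΛ] at this

/-- **Clifford's theorem**: a `Γ`-irreducible section is generated by `Λ`-irreducible
subgroups, for `Λ` normal in `Γ`. -/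
theorem ssJoin_of_irr (U V Γ Λ X : Subgroup G) (hΓV : Γ ≤ Subgroup.normalizer (V : Set G))
    (hΛΓ : Λ ≤ Γ) (hΓΛ : Γ ≤ Subgroup.normalizer (Λ : Set G)) (hX : IrrSub U V Γ X) :
    SSJoin U V Λ X := by
  classical
  obtain ⟨⟨hVX, hXU, hΓX⟩, hXV, hXmin⟩ := hX
  obtain ⟨X₁, ⟨hX₁inv, hX₁X, hX₁V⟩, hX₁min⟩ : ∃ X₁ : Subgroup G,
      (InvSub U V Λ X₁ ∧ X₁ ≤ X ∧ X₁ ≠ V) ∧
      ∀ Z : Subgroup G, InvSub U V Λ Z → Z ≤ X → Z ≠ V → Nat.card X₁ ≤ Nat.card Z := by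
    have hfin : ({Z : Subgroup G | InvSub U V Λ Z ∧ Z ≤ X ∧ Z ≠ V}).Finite := Set.toFinite _
    obtain ⟨Z, hZ, hZmin⟩ := Finset.exists_min_image hfin.toFinset
      (fun Z : Subgroup G => Nat.card Z)
      ⟨X, by rw [Set.Finite.mem_toFinset]; exact ⟨⟨hVX, hXU, hΛΓ.trans hΓX⟩, le_rfl, hXV⟩⟩
    rw [Set.Finite.mem_toFinset] at hZ
    exact ⟨Z, hZ, fun Z' h1 h2 h3 => hZmin Z' (by
      rw [Set.Finite.mem_toFinset]; exact ⟨h1, h2, h3⟩)⟩
  have hirr₁ : IrrSub U V Λ X₁ := by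
    refine ⟨hX₁inv, hX₁V, fun Y hY hYX₁ => ?_⟩
    by_cases hYV : Y = V
    · exact Or.inl hYV
    · exact Or.inr (Subgroup.eq_of_le_of_card_ge hYX₁ (hX₁min Y hY (hYX₁.trans hX₁X) hYV))
  have hconj : ∀ γ ∈ Γ, IrrSub U V Λ (cj γ X₁) ∧ cj γ X₁ ≤ X := by
    intro γ hγ
    have hcjV : cj γ V = V := cj_eq_self_of_mem_normalizer (hΓV hγ)
    have hle : cj γ X₁ ≤ X := by
      have := cj_mono (g := γ) hX₁X
      rwa [cj_eq_self_of_mem_normalizer (hΓX hγ)] at this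
    have hγinv : γ⁻¹ ∈ Γ := Γ.inv_mem hγ
    refine ⟨⟨invSub_cj (hΓV hγ) (hΓΛ hγ) hX₁inv (hle.trans hXU), ?_, ?_⟩, hle⟩
    · intro h
      apply hX₁V
      have h2 := congrArg (cj γ⁻¹) h
      rw [cj_inv_cj, cj_eq_self_of_mem_normalizer (hΓV hγinv)] at h2
      exact h2
    · intro Y hY hYle
      have h1 : cj γ⁻¹ Y ≤ X₁ := by
        have := cj_mono (g := γ⁻¹) hYle
        rwa [cj_inv_cj] at this
      have h2 : InvSub U V Λ (cj γ⁻¹ Y) :=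
        invSub_cj (hΓV hγinv) (hΓΛ hγinv) hY (h1.trans hX₁inv.2.1)
      rcases hirr₁.2.2 _ h2 h1 with h3 | h3
      · left
        have h4 := congrArg (cj γ) h3
        rw [cj_cj_inv, hcjV] at h4
        exact h4
      · right
        have h4 := congrArg (cj γ) h3
        rw [cj_cj_inv] at h4
        exact h4
  intro Y hY
  have hY₀Y : (⨆ γ : ↥Γ, cj (γ : G) X₁) ≤ Y :=
    iSup_le (fun γ => hY _ (hconj γ γ.2).1 (hconj γ γ.2).2)
  have hX₁Y₀ : X₁ ≤ ⨆ γ : ↥Γ, cj (γ : G) X₁ := by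
    have := le_iSup (fun γ : ↥Γ => cj (γ : G) X₁) ⟨1, Γ.one_mem⟩
    simpa [cj_one] using this
  have hY₀X : (⨆ γ : ↥Γ, cj (γ : G) X₁) ≤ X := iSup_le (fun γ => (hconj γ γ.2).2)
  have hY₀inv : InvSub U V Γ (⨆ γ : ↥Γ, cj (γ : G) X₁) := by
    refine ⟨hX₁inv.1.trans hX₁Y₀, hY₀X.trans hXU, ?_⟩
    intro γ' hγ'
    apply mem_normalizer_of_cj_le
    show (⨆ γ : ↥Γ, cj (γ : G) X₁).map (MulAut.conj γ').toMonoidHom ≤ _
    rw [Subgroup.map_iSup]
    apply iSup_le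
    intro γ
    have h1 : (cj (γ : G) X₁).map (MulAut.conj γ').toMonoidHom = cj (γ' * γ) X₁ := by
      rw [cj_mul]
    rw [h1]
    exact le_iSup (fun γ : ↥Γ => cj (γ : G) X₁) ⟨γ' * γ, Γ.mul_mem hγ' γ.2⟩
  rcases hXmin _ hY₀inv hY₀X with h | h
  · exfalso
    apply hX₁V
    exact le_antisymm (h ▸ hX₁Y₀) hX₁inv.1
  · rw [← h]; exact hY₀Y

theorem ssJoin_of_normal (U V Γ Λ : Subgroup G) (hΓV : Γ ≤ Subgroup.normalizer (V : Set G))
    (hΛΓ : Λ ≤ Γ) (hΓΛ : Γ ≤ Subgroup.normalizer (Λ : Set G)) (h : SSJoin U V Γ U) :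
    SSJoin U V Λ U := by
  intro Y hY
  apply h Y
  intro X hX _
  exact ssJoin_of_irr U V Γ Λ X hΓV hΛΓ hΓΛ hX Y (fun X' hX' _ => hY X' hX' hX'.1.2.1)

omit [Finite G] in
theorem ssJoin_of_chief {U V : Subgroup G} (h : IsChiefFactor U V) : SSJoin U V ⊤ U := by
  obtain ⟨hlt, hUn, hVn, hmin⟩ := h
  intro Y hY
  apply hY U ?_ le_rfl
  refine ⟨⟨hlt.le, le_rfl, by rw [Subgroup.normalizer_eq_top_iff.mpr hUn]⟩, hlt.ne', ?_⟩
  rintro Z ⟨hVZ, hZU, hZn⟩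
  intro _
  exact hmin Z (Subgroup.normalizer_eq_top_iff.mp (top_le_iff.mp hZn)) hVZ hZU

/-- subgroups between `V` and `U` are normalized by `U` when `U / V` is abelian. -/
theorem le_normalizer_of_between_comm {U V Z : Subgroup G} (hab : ⁅U, U⁆ ≤ V) (hVZ : V ≤ Z)
    (hZU : Z ≤ U) : U ≤ Subgroup.normalizer (Z : Set G) := by
  intro u hu
  apply mem_normalizer_of_cj_le
  intro y hy
  rw [mem_cj] at hy
  have h1 : ⁅u, u⁻¹ * y * u⁆ ∈ Z :=
    hVZ (hab (Subgroup.commutator_mem_commutator hu (hZU hy)))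
  have e : ⁅u, u⁻¹ * y * u⁆ * (u⁻¹ * y * u) = y := by
    simp only [commutatorElement_def]; group
  rw [← e]
  exact Z.mul_mem h1 hy

/-- complete reducibility: invariant subgroups have invariant complements. -/
theorem exists_compl_of_ssJoin (U V Λ : Subgroup G) (hab : ⁅U, U⁆ ≤ V) (hVU : V ≤ U)
    (hΛV : Λ ≤ Subgroup.normalizer (V : Set G)) (hSS : SSJoin U V Λ U) (W : Subgroup G)
    (hW : InvSub U V Λ W) :
    ∃ W' : Subgroup G, InvSub U V Λ W' ∧ W ⊓ W' = V ∧ W ⊔ W' = U := by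
  classical
  obtain ⟨W', ⟨hW'inv, hW'int⟩, hW'max⟩ : ∃ W' : Subgroup G,
      (InvSub U V Λ W' ∧ W ⊓ W' = V) ∧
      ∀ Z : Subgroup G, InvSub U V Λ Z → W ⊓ Z = V → Nat.card Z ≤ Nat.card W' := by
    have hfin : ({Z : Subgroup G | InvSub U V Λ Z ∧ W ⊓ Z = V}).Finite := Set.toFinite _
    obtain ⟨Z, hZ, hZmax⟩ := Finset.exists_max_image hfin.toFinset
      (fun Z : Subgroup G => Nat.card Z)
      ⟨V, by rw [Set.Finite.mem_toFinset]; exact ⟨⟨le_rfl, hVU, hΛV⟩, inf_eq_right.mpr hW.1⟩⟩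
    rw [Set.Finite.mem_toFinset] at hZ
    exact ⟨Z, hZ, fun Z' h1 h2 => hZmax Z' (by
      rw [Set.Finite.mem_toFinset]; exact ⟨h1, h2⟩)⟩
  refine ⟨W', hW'inv, hW'int, le_antisymm (sup_le hW.2.1 hW'inv.2.1) ?_⟩
  apply hSS
  intro X hX _
  by_contra hXY
  have hinf : X ⊓ (W ⊔ W') = V := by
    have hinv : InvSub U V Λ (X ⊓ (W ⊔ W')) :=
      ⟨le_inf hX.1.1 (hW.1.trans le_sup_left), inf_le_left.trans hX.1.2.1, fun l hl =>
        mem_normalizer_inf' _ _ l (hX.1.2.2 hl)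
          (le_normalizer_sup Λ W W' hW.2.2 hW'inv.2.2 hl)⟩
    rcases hX.2.2 _ hinv inf_le_left with h | h
    · exact h
    · exact absurd (inf_eq_left.mp h) hXY
  have hinv2 : InvSub U V Λ (W' ⊔ X) :=
    ⟨hW'inv.1.trans le_sup_left, sup_le hW'inv.2.1 hX.1.2.1,
      le_normalizer_sup Λ W' X hW'inv.2.2 hX.1.2.2⟩
  have hint2 : W ⊓ (W' ⊔ X) = V := by
    apply le_antisymm _ (le_inf hW.1 (hW'inv.1.trans le_sup_left))
    rintro z ⟨hzW, hzs⟩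
    have hXN : X ≤ Subgroup.normalizer (W' : Set G) :=
      hX.1.2.1.trans (le_normalizer_of_between_comm hab hW'inv.1 hW'inv.2.1)
    obtain ⟨w', hw', x, hx, rfl⟩ := mem_sup_of_le_normalizer hXN hzs
    have hxY : x ∈ W ⊔ W' := by
      have e : x = w'⁻¹ * (w' * x) := by group
      rw [e]
      exact Subgroup.mul_mem _ (Subgroup.mem_sup_right (W'.inv_mem hw'))
        (Subgroup.mem_sup_left hzW)
    have hxV : x ∈ V := by
      have : x ∈ X ⊓ (W ⊔ W') := ⟨hx, hxY⟩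
      rwa [hinf] at this
    have hz' : w' * x ∈ W' := W'.mul_mem hw' (hW'inv.1 hxV)
    have : w' * x ∈ W ⊓ W' := ⟨hzW, hz'⟩
    rwa [hW'int] at this
  have hcard := hW'max _ hinv2 hint2
  have heq : W' = W' ⊔ X := Subgroup.eq_of_le_of_card_ge le_sup_left hcard
  exact hXY ((le_sup_right.trans heq.ge).trans le_sup_right)

/-- the fixed points of `R` on `U / V` have an `R`-invariant complement `W₂`, which contains
`[U, R]` and meets the fixed points trivially. -/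
theorem fixed_compl (U V R : Subgroup G) [hUn : U.Normal] [hVn : V.Normal] (hVU : V ≤ U)
    (hab : ⁅U, U⁆ ≤ V) (hSS : SSJoin U V R U) :
    ∃ W₂ : Subgroup G, V ≤ W₂ ∧ W₂ ≤ U ∧ ⁅U, R⁆ ≤ W₂ ∧
      ∀ Z : Subgroup G, Z ≤ W₂ → ⁅Z, R⁆ ≤ V → Z ≤ V := by
  have hRV : R ≤ Subgroup.normalizer (V : Set G) := by
    rw [Subgroup.normalizer_eq_top_iff.mpr hVn]; exact le_top
  have hRU : R ≤ Subgroup.normalizer (U : Set G) := by
    rw [Subgroup.normalizer_eq_top_iff.mpr hUn]; exact le_top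
  have hVst : V ≤ stabMod R V := by
    rw [le_stabMod_iff]
    exact Subgroup.commutator_le_right R V
  have hRst : R ≤ Subgroup.normalizer ((stabMod R V : Subgroup G) : Set G) := by
    intro r hr
    apply mem_normalizer_of_cj_le
    intro y hy
    rw [mem_cj] at hy
    intro a ha
    have h1 := hy (r⁻¹ * a * r) (R.mul_mem (R.mul_mem (R.inv_mem hr) ha) hr)
    have e : ⁅a, y⁆ = r * ⁅r⁻¹ * a * r, r⁻¹ * y * r⁆ * r⁻¹ := by
      simp only [commutatorElement_def]; group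
    rw [e]
    exact hVn.conj_mem _ h1 r
  have hW₁ : InvSub U V R (U ⊓ stabMod R V) :=
    ⟨le_inf hVU hVst, inf_le_left, fun r hr => mem_normalizer_inf' _ _ r (hRU hr) (hRst hr)⟩
  obtain ⟨W₂, hW₂inv, hint, hsup⟩ := exists_compl_of_ssJoin U V R hab hVU hRV hSS _ hW₁
  refine ⟨W₂, hW₂inv.1, hW₂inv.2.1, ?_, ?_⟩
  · rw [Subgroup.commutator_le]
    intro u hu r hr
    have hW₂N : W₂ ≤ Subgroup.normalizer ((U ⊓ stabMod R V : Subgroup G) : Set G) :=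
      hW₂inv.2.1.trans (le_normalizer_of_between_comm hab hW₁.1 hW₁.2.1)
    have hu' : u ∈ (U ⊓ stabMod R V) ⊔ W₂ := by rw [hsup]; exact hu
    obtain ⟨w₁, hw₁, w₂, hw₂, rfl⟩ := mem_sup_of_le_normalizer hW₂N hu'
    have h1 : ⁅w₂, r⁆ ∈ W₂ := by
      have h2 : r * w₂⁻¹ * r⁻¹ ∈ W₂ :=
        (Subgroup.mem_normalizer_iff.mp (hW₂inv.2.2 hr) w₂⁻¹).mp (W₂.inv_mem hw₂)
      have e : ⁅w₂, r⁆ = w₂ * (r * w₂⁻¹ * r⁻¹) := by
        simp only [commutatorElement_def]; group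
      rw [e]; exact W₂.mul_mem hw₂ h2
    have h2 : w₁ * ⁅w₂, r⁆ * w₁⁻¹ ∈ W₂ :=
      (Subgroup.mem_normalizer_iff.mp
        (le_normalizer_of_between_comm hab hW₂inv.1 hW₂inv.2.1 hw₁.1) _).mp h1
    have h3 : ⁅w₁, r⁆ ∈ V := by
      have h4 := hw₁.2 r hr
      have e : ⁅w₁, r⁆ = ⁅r, w₁⁆⁻¹ := by
        simp only [commutatorElement_def]; group
      rw [e]; exact V.inv_mem h4
    have e : ⁅w₁ * w₂, r⁆ = w₁ * ⁅w₂, r⁆ * w₁⁻¹ * ⁅w₁, r⁆ := by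
      simp only [commutatorElement_def]; group
    rw [e]
    exact W₂.mul_mem h2 (hW₂inv.1 h3)
  · intro Z hZ hZR
    have h1 : Z ≤ stabMod R V := by
      rw [le_stabMod_iff, Subgroup.commutator_comm]; exact hZR
    have h2 : Z ≤ (U ⊓ stabMod R V) ⊓ W₂ := le_inf (le_inf (hZ.trans hW₂inv.2.1) h1) hZ
    rwa [hint] at h2

end Cliff

end Cfsg.Agent.Helper13
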