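import Mathlib
import Cfsg.Prelude
import Cfsg.Agent.Helper10.TwoConj

/-!
# Cyclic normal subgroups of Sylow subgroups: preliminaries (helper13)

Burnside's lemma on coprime automorphisms acting trivially on the Frattini quotient (for elements
of prime order), stability groups of two-step chains, and some power computations.
-/

set_option autoImplicit false
set_option linter.style.haveILetI false

namespace Cfsg.Agent.Helper13

open Cfsg

universe u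

section CycNorm1

variable {G : Type u} [Group G]

/-- a coprime element of prime order acting trivially on the Frattini quotient of a `p`-subgroup
centralizes it -/
theorem cn_coprime_centralizes [Finite G] {p r : ℕ} [Fact p.Prime] [Fact r.Prime] (hrp : r ≠ p)
    (Q : Subgroup G) (hQ : IsPGroup p Q) (h : G) (hr : h ^ r = 1)
    (hΦn : ∀ φ ∈ (frattini ↥Q).map Q.subtype, h * φ * h⁻¹ ∈ (frattini ↥Q).map Q.subtype)
    (hΦn' : ∀ φ ∈ (frattini ↥Q).map Q.subtype, h⁻¹ * φ * h ∈ (frattini ↥Q).map Q.subtype)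
    (hc : ∀ q ∈ Q, q⁻¹ * (h * q * h⁻¹) ∈ (frattini ↥Q).map Q.subtype)
    (hc' : ∀ q ∈ Q, q⁻¹ * (h⁻¹ * q * h) ∈ (frattini ↥Q).map Q.subtype) :
    ∀ q ∈ Q, h * q * h⁻¹ = q := by
  classical
  obtain ⟨Φ, hΦdef⟩ : ∃ Φ : Subgroup G, Φ = (frattini ↥Q).map Q.subtype := ⟨_, rfl⟩
  rw [← hΦdef] at hΦn hΦn' hc hc'
  have hΦQ : Φ ≤ Q := by rw [hΦdef]; exact Subgroup.map_subtype_le _
  have hfix : ∀ q ∈ Q, ∃ φ ∈ Φ, h * (q * φ) * h⁻¹ = q * φ := by
    intro q hq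
    haveI : Fintype ↥Φ := Fintype.ofFinite _
    let σ : Equiv.Perm ↥Φ :=
      { toFun := fun φ => ⟨q⁻¹ * h * q * φ.1 * h⁻¹, by
          have h1 : q⁻¹ * h * q * φ.1 * h⁻¹ = (q⁻¹ * (h * q * h⁻¹)) * (h * φ.1 * h⁻¹) := by group
          rw [h1]
          exact Φ.mul_mem (hc q hq) (hΦn _ φ.2)⟩
        invFun := fun φ => ⟨q⁻¹ * h⁻¹ * q * φ.1 * h, by
          have h1 : q⁻¹ * h⁻¹ * q * φ.1 * h = (q⁻¹ * (h⁻¹ * q * h)) * (h⁻¹ * φ.1 * h) := by group
          rw [h1]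
          exact Φ.mul_mem (hc' q hq) (hΦn' _ φ.2)⟩
        left_inv := fun φ => by
          apply Subtype.ext
          show q⁻¹ * h⁻¹ * q * (q⁻¹ * h * q * φ.1 * h⁻¹) * h = φ.1
          group
        right_inv := fun φ => by
          apply Subtype.ext
          show q⁻¹ * h * q * (q⁻¹ * h⁻¹ * q * φ.1 * h) * h⁻¹ = φ.1
          group }
    have hσ1 : ∀ φ : ↥Φ, ((σ φ : ↥Φ) : G) = q⁻¹ * h * q * φ.1 * h⁻¹ := fun φ => rfl
    have hσk : ∀ (k : ℕ) (φ : ↥Φ), (((σ ^ k) φ : ↥Φ) : G) = q⁻¹ * h ^ k * q * φ.1 * (h ^ k)⁻¹ := by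
      intro k
      induction k with
      | zero =>
        intro φ
        rw [pow_zero, pow_zero, Equiv.Perm.one_apply]
        group
      | succ k ih =>
        intro φ
        rw [pow_succ' σ k, Equiv.Perm.mul_apply, hσ1, ih φ, pow_succ' h k]
        group
    have hσr : σ ^ r ^ 1 = 1 := by
      rw [pow_one]
      ext φ
      rw [hσk r φ, hr, Equiv.Perm.one_apply]
      group
    have hcard : ¬ r ∣ Fintype.card ↥Φ := by
      have hΦp : IsPGroup p Φ := hQ.to_le hΦQ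
      obtain ⟨k, hk⟩ := IsPGroup.iff_card.mp hΦp
      rw [← Nat.card_eq_fintype_card, hk]
      intro hdvd
      have := (Nat.prime_dvd_prime_iff_eq (Fact.out : r.Prime) (Fact.out : p.Prime)).mp
        ((Fact.out : r.Prime).dvd_of_dvd_pow hdvd)
      exact hrp this
    obtain ⟨φ, hφ⟩ := Equiv.Perm.exists_fixed_point_of_prime hcard hσr
    refine ⟨φ.1, φ.2, ?_⟩
    have h1 : q⁻¹ * h * q * φ.1 * h⁻¹ = φ.1 := by
      rw [← hσ1 φ, hφ]
    calc h * (q * φ.1) * h⁻¹ = q * (q⁻¹ * h * q * φ.1 * h⁻¹) := by group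
      _ = q * φ.1 := by rw [h1]
  have htop : (Subgroup.centralizer ({h} : Set G)).subgroupOf Q ⊔ frattini ↥Q = ⊤ := by
    rw [eq_top_iff]
    rintro ⟨q, hq⟩ -
    obtain ⟨φ, hφ, hfixed⟩ := hfix q hq
    have hφQ : φ ∈ Q := hΦQ hφ
    have h1 : (⟨q, hq⟩ : ↥Q) = ⟨q * φ, Q.mul_mem hq hφQ⟩ * (⟨φ, hφQ⟩ : ↥Q)⁻¹ := by
      apply Subtype.ext
      show q = q * φ * φ⁻¹
      group
    rw [h1]
    apply Subgroup.mul_mem_sup
    · rw [Subgroup.mem_subgroupOf, Subgroup.mem_centralizer_iff]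
      intro x hx
      rw [Set.mem_singleton_iff] at hx
      subst hx
      show x * (q * φ) = q * φ * x
      calc x * (q * φ) = (x * (q * φ) * x⁻¹) * x := by group
        _ = q * φ * x := by rw [hfixed]
    · apply Subgroup.inv_mem
      rw [hΦdef] at hφ
      obtain ⟨φ', hφ', hφeq⟩ := hφ
      have : (⟨φ, hφQ⟩ : ↥Q) = φ' := Subtype.ext hφeq.symm
      rw [this]
      exact hφ'
  have hall := frattini_nongenerating htop
  intro q hq
  have h1 : (⟨q, hq⟩ : ↥Q) ∈ (Subgroup.centralizer ({h} : Set G)).subgroupOf Q := by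
    rw [hall]; exact Subgroup.mem_top _
  rw [Subgroup.mem_subgroupOf, Subgroup.mem_centralizer_iff] at h1
  have h2 : h * q = q * h := h1 h rfl
  calc h * q * h⁻¹ = q * h * h⁻¹ := by rw [h2]
    _ = q := by group

/-- the action on the Frattini quotient of a self-centralizing normal `p`-subgroup containing all
normal `p`-subgroups is faithful modulo that subgroup -/
theorem cn_frattini_faithful [Finite G] {p : ℕ} [Fact p.Prime] (Q : Subgroup G) [hQn : Q.Normal]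
    (hQ : IsPGroup p Q) (hCQ : Subgroup.centralizer (Q : Set G) ≤ Q)
    (hmax : ∀ N : Subgroup G, N.Normal → IsPGroup p N → N ≤ Q) (g : G)
    (hg : ∀ q ∈ Q, g * q * g⁻¹ * q⁻¹ ∈ (frattini ↥Q).map Q.subtype) : g ∈ Q := by
  classical
  obtain ⟨Φ, hΦdef⟩ : ∃ Φ : Subgroup G, Φ = (frattini ↥Q).map Q.subtype := ⟨_, rfl⟩
  rw [← hΦdef] at hg
  haveI hΦn : Φ.Normal := by
    rw [hΦdef]; exact ConjAct.normal_of_characteristic_of_normal
  obtain ⟨C, hCmem, hCn⟩ : ∃ C : Subgroup G,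
      (∀ x : G, x ∈ C ↔ ∀ q ∈ Q, x * q * x⁻¹ * q⁻¹ ∈ Φ) ∧ C.Normal := by
    refine ⟨{ carrier := {x | ∀ q ∈ Q, x * q * x⁻¹ * q⁻¹ ∈ Φ}
              one_mem' := ?_
              mul_mem' := ?_
              inv_mem' := ?_ }, fun x => Iff.rfl, ⟨?_⟩⟩
    · intro x y hx hy q hq
      have : x * y * q * (x * y)⁻¹ * q⁻¹ =
          (x * (y * q * y⁻¹ * q⁻¹) * x⁻¹) * (x * q * x⁻¹ * q⁻¹) := by group
      rw [this]
      exact Φ.mul_mem (hΦn.conj_mem _ (hy q hq) x) (hx q hq)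
    · intro q _
      have : (1 : G) * q * 1⁻¹ * q⁻¹ = 1 := by group
      rw [this]; exact Φ.one_mem
    · intro x hx q hq
      have hq' : x⁻¹ * q * x ∈ Q := by
        have := hQn.conj_mem q hq x⁻¹
        rwa [inv_inv] at this
      have h1 := hx _ hq'
      have : x⁻¹ * q * x⁻¹⁻¹ * q⁻¹ = (x * (x⁻¹ * q * x) * x⁻¹ * (x⁻¹ * q * x)⁻¹)⁻¹ := by group
      rw [this]
      exact Φ.inv_mem h1
    · intro x hx t q hq
      have hq' : t⁻¹ * q * t ∈ Q := by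
        have := hQn.conj_mem q hq t⁻¹
        rwa [inv_inv] at this
      have h1 := hx _ hq'
      have : t * x * t⁻¹ * q * (t * x * t⁻¹)⁻¹ * q⁻¹ =
          t * (x * (t⁻¹ * q * t) * x⁻¹ * (t⁻¹ * q * t)⁻¹) * t⁻¹ := by group
      rw [this]
      exact hΦn.conj_mem _ h1 t
  have hgC : g ∈ C := (hCmem g).mpr hg
  have hCp : IsPGroup p C := by
    have hpos : Nat.card C ≠ 0 := Nat.card_pos.ne'
    have huniq : ∀ {d : ℕ}, d.Prime → d ∣ Nat.card C → d = p := by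
      intro r hr hdvd
      by_contra hrp
      haveI : Fact r.Prime := ⟨hr⟩
      obtain ⟨x, hx⟩ := exists_prime_orderOf_dvd_card' r hdvd
      have hxr : (x : G) ^ r = 1 := by
        have h1 := pow_orderOf_eq_one x
        rw [hx] at h1
        have h2 := congrArg Subtype.val h1
        rwa [Subgroup.coe_pow] at h2
      have hxC := (hCmem x.1).mp x.2
      have hxC' := (hCmem (x.1)⁻¹).mp (C.inv_mem x.2)
      have hcent : ∀ q ∈ Q, (x : G) * q * (x : G)⁻¹ = q := by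
        apply cn_coprime_centralizes hrp Q hQ (x : G) hxr
        · rw [← hΦdef]; intro φ hφ; exact hΦn.conj_mem φ hφ _
        · rw [← hΦdef]; intro φ hφ
          have := hΦn.conj_mem φ hφ (x : G)⁻¹
          rwa [inv_inv] at this
        · rw [← hΦdef]; intro q hq
          have h1 := hxC q hq
          have : q⁻¹ * ((x : G) * q * (x : G)⁻¹) =
              q⁻¹ * ((x : G) * q * (x : G)⁻¹ * q⁻¹) * q⁻¹⁻¹ := by group
          rw [this]
          exact hΦn.conj_mem _ h1 q⁻¹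
        · rw [← hΦdef]; intro q hq
          have h1 := hxC' q hq
          rw [inv_inv] at h1
          have : q⁻¹ * ((x : G)⁻¹ * q * (x : G)) =
              q⁻¹ * ((x : G)⁻¹ * q * (x : G) * q⁻¹) * q⁻¹⁻¹ := by group
          rw [this]
          exact hΦn.conj_mem _ h1 q⁻¹
      have hxQ : (x : G) ∈ Q := by
        apply hCQ
        rw [Subgroup.mem_centralizer_iff]
        intro q hq
        have h1 := hcent q hq
        calc q * (x : G) = ((x : G) * q * (x : G)⁻¹) * (x : G) := by rw [h1]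
          _ = (x : G) * q := by group
      obtain ⟨k, hk⟩ := hQ ⟨x, hxQ⟩
      have hk' : (x : G) ^ p ^ k = 1 := by
        have h2 := congrArg Subtype.val hk
        rwa [Subgroup.coe_pow] at h2
      have h3 : orderOf (x : G) ∣ p ^ k := orderOf_dvd_of_pow_eq_one hk'
      rw [Subgroup.orderOf_coe, hx] at h3
      exact hrp ((Nat.prime_dvd_prime_iff_eq hr (Fact.out : p.Prime)).mp
        (hr.dvd_of_dvd_pow h3))
    exact IsPGroup.of_card (Nat.eq_prime_pow_of_unique_prime_dvd hpos huniq)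
  exact hmax C hCn hCp hgC

/-- conjugating by a power when the commutator is fixed -/
theorem cn_conj_pow (x w : G) (hx : x * (x * w * x⁻¹ * w⁻¹) * x⁻¹ = x * w * x⁻¹ * w⁻¹) (k : ℕ) :
    x ^ k * w * (x ^ k)⁻¹ = (x * w * x⁻¹ * w⁻¹) ^ k * w := by
  obtain ⟨n, hndef⟩ : ∃ n : G, n = x * w * x⁻¹ * w⁻¹ := ⟨_, rfl⟩
  rw [← hndef] at hx ⊢
  have hxw : x * w * x⁻¹ = n * w := by rw [hndef]; group
  induction k with
  | zero => simp
  | succ k ih =>
    have h1 : x ^ (k + 1) * w * (x ^ (k + 1))⁻¹ = x * (x ^ k * w * (x ^ k)⁻¹) * x⁻¹ := by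
      rw [pow_succ']; group
    rw [h1, ih]
    have h2 : x * (n ^ k * w) * x⁻¹ = (x * n ^ k * x⁻¹) * (x * w * x⁻¹) := by group
    rw [h2, ← conj_pow, hx, hxw, pow_succ, mul_assoc]

/-- a stability-group element has `p`-th power acting trivially -/
theorem cn_pow_centralizes {p : ℕ} (W N : Subgroup G) (hNp : ∀ n ∈ N, n ^ p = 1) (x : G)
    (hx : ∀ w ∈ W, x * w * x⁻¹ * w⁻¹ ∈ N) (hxN : ∀ n ∈ N, x * n * x⁻¹ = n) :
    ∀ w ∈ W, x ^ p * w * (x ^ p)⁻¹ = w := by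
  intro w hw
  rw [cn_conj_pow x w (hxN _ (hx w hw)) p, hNp _ (hx w hw), one_mul]

/-- a nontrivial element of a cyclic group of prime order generates it -/
theorem cn_pow_gen [Finite G] {p : ℕ} [hp : Fact p.Prime] (z c : G) (hz : z ^ p = 1)
    (hc : c ∈ Subgroup.zpowers z) (hc1 : c ≠ 1) : ∃ j : ℕ, c ^ j = z := by
  obtain ⟨i, rfl⟩ := Subgroup.mem_zpowers_iff.mp hc
  have hi : ¬ (p : ℤ) ∣ i := by
    rintro ⟨m, rfl⟩
    apply hc1
    rw [zpow_mul, zpow_natCast, hz, one_zpow]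
  have hcop : Int.gcd i p = 1 := by
    have h1 : Nat.Coprime p i.natAbs := by
      rw [Nat.Prime.coprime_iff_not_dvd hp.out]
      intro hdvd
      exact hi (Int.natCast_dvd.mpr hdvd)
    show Nat.gcd i.natAbs ((p : ℤ).natAbs) = 1
    rw [Int.natAbs_natCast]
    exact h1.symm
  have hbez := Int.gcd_eq_gcd_ab i p
  rw [hcop] at hbez
  have h1 : (1 : ℤ) = i * Int.gcdA i p + (p : ℤ) * Int.gcdB i p := by exact_mod_cast hbez
  have hmem : z ∈ Subgroup.zpowers (z ^ i) := by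
    rw [Subgroup.mem_zpowers_iff]
    refine ⟨Int.gcdA i p, ?_⟩
    have h2 : i * Int.gcdA i p = 1 - (p : ℤ) * Int.gcdB i p := by linarith
    rw [← zpow_mul, h2, zpow_sub, zpow_one, zpow_mul, zpow_natCast, hz, one_zpow, inv_one, mul_one]
  rw [← mem_powers_iff_mem_zpowers] at hmem
  obtain ⟨j, hj⟩ := hmem
  exact ⟨j, hj⟩

/-- elements acting trivially on `Q / N` -/
def cnStab (Q N : Subgroup G) (hNQ : N ≤ Q) : Subgroup G where
  carrier := {g | ∀ q ∈ Q, g * q * g⁻¹ * q⁻¹ ∈ N ∧ g⁻¹ * q * g * q⁻¹ ∈ N}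
  one_mem' := by
    intro q _
    have h1 : (1 : G) * q * 1⁻¹ * q⁻¹ = 1 := by group
    have h2 : (1 : G)⁻¹ * q * 1 * q⁻¹ = 1 := by group
    rw [h1, h2]; exact ⟨N.one_mem, N.one_mem⟩
  mul_mem' := by
    intro x y hx hy q hq
    have hxN : ∀ n ∈ N, x * n * x⁻¹ ∈ N := by
      intro n hn
      have h0 := (hx n (hNQ hn)).1
      have h1 : x * n * x⁻¹ = (x * n * x⁻¹ * n⁻¹) * n := by group
      rw [h1]; exact N.mul_mem h0 hn
    have hyN : ∀ n ∈ N, y⁻¹ * n * y ∈ N := by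
      intro n hn
      have h0 := (hy n (hNQ hn)).2
      have h1 : y⁻¹ * n * y = (y⁻¹ * n * y * n⁻¹) * n := by group
      rw [h1]; exact N.mul_mem h0 hn
    constructor
    · have h1 : x * y * q * (x * y)⁻¹ * q⁻¹ =
          (x * (y * q * y⁻¹ * q⁻¹) * x⁻¹) * (x * q * x⁻¹ * q⁻¹) := by group
      rw [h1]
      exact N.mul_mem (hxN _ (hy q hq).1) (hx q hq).1
    · have h1 : (x * y)⁻¹ * q * (x * y) * q⁻¹ =
          (y⁻¹ * (x⁻¹ * q * x * q⁻¹) * y) * (y⁻¹ * q * y * q⁻¹) := by group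
      rw [h1]
      exact N.mul_mem (hyN _ (hx q hq).2) (hy q hq).2
  inv_mem' := by
    intro x hx q hq
    refine ⟨?_, ?_⟩
    · have h0 := (hx q hq).2
      rwa [inv_inv]
    · have h0 := (hx q hq).1
      rwa [inv_inv]

theorem cn_mem_stab (Q N : Subgroup G) (hNQ : N ≤ Q) [hQn : Q.Normal] (g : G)
    (hg : ∀ q ∈ Q, g * q * g⁻¹ * q⁻¹ ∈ N) : g ∈ cnStab Q N hNQ := by
  show ∀ q ∈ Q, g * q * g⁻¹ * q⁻¹ ∈ N ∧ g⁻¹ * q * g * q⁻¹ ∈ N
  intro q hq
  refine ⟨hg q hq, ?_⟩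
  have hq' : g⁻¹ * q * g ∈ Q := by
    have := hQn.conj_mem q hq g⁻¹
    rwa [inv_inv] at this
  have h1 := hg _ hq'
  have h2 : g⁻¹ * q * g * q⁻¹ = (g * (g⁻¹ * q * g) * g⁻¹ * (g⁻¹ * q * g)⁻¹)⁻¹ := by group
  rw [h2]; exact N.inv_mem h1

theorem cn_stab_mono (Q N N' : Subgroup G) (hNQ : N ≤ Q) (hN'Q : N' ≤ Q) (hNN' : N ≤ N') :
    cnStab Q N hNQ ≤ cnStab Q N' hN'Q := by
  intro g hg q hq
  exact ⟨hNN' (hg q hq).1, hNN' (hg q hq).2⟩

theorem cn_stab_apply (Q N : Subgroup G) (hNQ : N ≤ Q) {g : G} (hg : g ∈ cnStab Q N hNQ) {q : G}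
    (hq : q ∈ Q) : g * q * g⁻¹ * q⁻¹ ∈ N := (hg q hq).1

theorem cn_stab_apply' (Q N : Subgroup G) (hNQ : N ≤ Q) {g : G} (hg : g ∈ cnStab Q N hNQ) {q : G}
    (hq : q ∈ Q) : g⁻¹ * q * g * q⁻¹ ∈ N := (hg q hq).2

/-- `(q a)^p = a^p` for `p` odd when `a` acts on the elementary abelian `Q` with central
commutators -/
theorem cn_pow_mul {p : ℕ} (hodd : Odd p) (hpp : p.Prime) (Q : Subgroup G)
    (hQp : ∀ q ∈ Q, q ^ p = 1) (hQc : ∀ x ∈ Q, ∀ y ∈ Q, x * y = y * x) (a : G)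
    (hcQ : ∀ q ∈ Q, a * q * a⁻¹ * q⁻¹ ∈ Q)
    (hca : ∀ q ∈ Q, a * (a * q * a⁻¹ * q⁻¹) * a⁻¹ = a * q * a⁻¹ * q⁻¹) (q : G) (hq : q ∈ Q) :
    (q * a) ^ p = a ^ p := by
  obtain ⟨c, hcdef⟩ : ∃ c : G, c = a * q * a⁻¹ * q⁻¹ := ⟨_, rfl⟩
  have hcQ' : c ∈ Q := by rw [hcdef]; exact hcQ q hq
  have hac : a * c * a⁻¹ = c := by rw [hcdef]; exact hca q hq
  have hk1 : ∀ k : ℕ, a ^ k * q = c ^ k * q * a ^ k := by
    intro k
    have h1 := cn_conj_pow a q (hca q hq) k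
    rw [← hcdef] at h1
    calc a ^ k * q = (a ^ k * q * (a ^ k)⁻¹) * a ^ k := by group
      _ = c ^ k * q * a ^ k := by rw [h1]
  have key : ∀ k : ℕ, ∃ e : ℕ, 2 * e + k = k * k ∧ (q * a) ^ k = c ^ e * q ^ k * a ^ k := by
    intro k
    induction k with
    | zero => exact ⟨0, by norm_num, by simp⟩
    | succ k ih =>
      obtain ⟨e, he, hpow⟩ := ih
      refine ⟨e + k, ?_, ?_⟩
      · have h1 : (k + 1) * (k + 1) = k * k + 2 * k + 1 := by ring
        rw [h1, ← he]; ring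
      · have hqc : q ^ k * c ^ k = c ^ k * q ^ k :=
          hQc _ (Q.pow_mem hq k) _ (Q.pow_mem hcQ' k)
        calc (q * a) ^ (k + 1) = (q * a) ^ k * (q * a) := pow_succ _ _
          _ = c ^ e * q ^ k * a ^ k * (q * a) := by rw [hpow]
          _ = c ^ e * q ^ k * (a ^ k * q) * a := by group
          _ = c ^ e * q ^ k * (c ^ k * q * a ^ k) * a := by rw [hk1 k]
          _ = c ^ e * (q ^ k * c ^ k) * q * (a ^ k * a) := by group
          _ = c ^ e * (c ^ k * q ^ k) * q * (a ^ k * a) := by rw [hqc]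
          _ = c ^ (e + k) * q ^ (k + 1) * a ^ (k + 1) := by group
  obtain ⟨e, he, hpow⟩ := key p
  have hpe : p ∣ e := by
    have h3 : p * (p - 1) + p = p * p := by
      rw [Nat.mul_sub_one]; exact Nat.sub_add_cancel (Nat.le_mul_self p)
    have h4 : 2 * e = p * (p - 1) := Nat.add_right_cancel (he.trans h3.symm)
    have h1 : p ∣ 2 * e := by rw [h4]; exact dvd_mul_right _ _
    rcases (Nat.Prime.dvd_mul hpp).mp h1 with h2 | h2
    · exfalso
      have h5 := (Nat.prime_dvd_prime_iff_eq hpp Nat.prime_two).mp h2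
      rw [h5] at hodd
      exact absurd hodd (by decide)
    · exact h2
  obtain ⟨m, rfl⟩ := hpe
  rw [hpow, pow_mul, hQp c hcQ', one_pow, one_mul, hQp q hq, one_mul]

/-- two "transvections" with the first fixing the centre of the second: the quotient is a
`p`-element modulo the centralizer -/
theorem cn_pair {p : ℕ} (Q : Subgroup G) [hQn : Q.Normal] (hQp : ∀ q ∈ Q, q ^ p = 1)
    (a b z₀ z₁ : G) (hz₀ : z₀ ∈ Q) (hz₁ : z₁ ∈ Q)
    (ha : ∀ q ∈ Q, a * q * a⁻¹ * q⁻¹ ∈ Subgroup.zpowers z₀)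
    (hb : ∀ q ∈ Q, b * q * b⁻¹ * q⁻¹ ∈ Subgroup.zpowers z₁)
    (haz₀ : a * z₀ * a⁻¹ = z₀) (hbz₁ : b * z₁ * b⁻¹ = z₁) (haz₁ : a * z₁ * a⁻¹ = z₁) :
    ∀ q ∈ Q, (a * b⁻¹) ^ (p * p) * q * ((a * b⁻¹) ^ (p * p))⁻¹ = q := by
  obtain ⟨M, hMdef⟩ : ∃ M : Subgroup G, M = Subgroup.closure {z₀, z₁} := ⟨_, rfl⟩
  have hMQ : M ≤ Q := by
    rw [hMdef, Subgroup.closure_le]
    intro x hx
    rcases hx with rfl | rfl
    · exact hz₀
    · exact hz₁
  have hz₀M : z₀ ∈ M := by rw [hMdef]; exact Subgroup.subset_closure (by simp)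
  have hz₁M : z₁ ∈ M := by rw [hMdef]; exact Subgroup.subset_closure (by simp)
  have hZ₀M : Subgroup.zpowers z₀ ≤ M := Subgroup.zpowers_le.mpr hz₀M
  have hZ₁M : Subgroup.zpowers z₁ ≤ M := Subgroup.zpowers_le.mpr hz₁M
  have hZ₁Q : Subgroup.zpowers z₁ ≤ Q := hZ₁M.trans hMQ
  -- `a` centralizes `M`
  have haM : ∀ m ∈ M, a * m * a⁻¹ = m := by
    intro m hm
    have hm' : m ∈ Subgroup.closure ({z₀, z₁} : Set G) := by rw [← hMdef]; exact hm
    induction hm' using Subgroup.closure_induction with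
    | mem x hx =>
      rcases hx with rfl | rfl
      · exact haz₀
      · exact haz₁
    | one => group
    | mul x y _ _ ihx ihy =>
      have h1 : a * (x * y) * a⁻¹ = (a * x * a⁻¹) * (a * y * a⁻¹) := by group
      rw [h1, ihx (by rw [hMdef]; assumption), ihy (by rw [hMdef]; assumption)]
    | inv x _ ih =>
      have h1 : a * x⁻¹ * a⁻¹ = (a * x * a⁻¹)⁻¹ := by group
      rw [h1, ih (by rw [hMdef]; assumption)]
  -- `b` centralizes `⟨z₁⟩`
  have hbZ : ∀ n ∈ Subgroup.zpowers z₁, b * n * b⁻¹ = n := by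
    intro n hn
    obtain ⟨k, rfl⟩ := Subgroup.mem_zpowers_iff.mp hn
    rw [← conj_zpow, hbz₁]
  have hbZ' : ∀ n ∈ Subgroup.zpowers z₁, b⁻¹ * n * b = n := by
    intro n hn
    have h1 := hbZ n hn
    calc b⁻¹ * n * b = b⁻¹ * (b * n * b⁻¹) * b := by rw [h1]
      _ = n := by group
  have haS : a ∈ cnStab Q M hMQ :=
    cn_mem_stab Q M hMQ a (fun q hq => hZ₀M (ha q hq))
  have hbS1 : b ∈ cnStab Q (Subgroup.zpowers z₁) hZ₁Q := cn_mem_stab Q _ hZ₁Q b hb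
  have hbS : b ∈ cnStab Q M hMQ := cn_stab_mono Q _ M hZ₁Q hMQ hZ₁M hbS1
  have hxS : a * b⁻¹ ∈ cnStab Q M hMQ := Subgroup.mul_mem _ haS (Subgroup.inv_mem _ hbS)
  -- `x = a b⁻¹` on `M`
  have hxM : ∀ m ∈ M, (a * b⁻¹) * m * (a * b⁻¹)⁻¹ * m⁻¹ ∈ Subgroup.zpowers z₁ := by
    intro m hm
    have hd := cn_stab_apply' Q _ hZ₁Q hbS1 (hMQ hm)
    have hdm : b⁻¹ * m * b ∈ M := by
      have h1 : b⁻¹ * m * b = (b⁻¹ * m * b * m⁻¹) * m := by group
      rw [h1]; exact M.mul_mem (hZ₁M hd) hm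
    have h2 : (a * b⁻¹) * m * (a * b⁻¹)⁻¹ * m⁻¹ = (a * (b⁻¹ * m * b) * a⁻¹) * m⁻¹ := by group
    rw [h2, haM _ hdm]
    exact hd
  have hxZ : ∀ n ∈ Subgroup.zpowers z₁, (a * b⁻¹) * n * (a * b⁻¹)⁻¹ = n := by
    intro n hn
    have h2 : (a * b⁻¹) * n * (a * b⁻¹)⁻¹ = a * (b⁻¹ * n * b) * a⁻¹ := by group
    rw [h2, hbZ' n hn, haM n (hZ₁M hn)]
  have h1 := cn_pow_centralizes (p := p) M (Subgroup.zpowers z₁)
    (fun n hn => hQp n (hZ₁Q hn)) (a * b⁻¹) hxM hxZ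
  have hxpS : (a * b⁻¹) ^ p ∈ cnStab Q M hMQ := Subgroup.pow_mem _ hxS p
  have h2 := cn_pow_centralizes (p := p) Q M (fun n hn => hQp n (hMQ hn)) ((a * b⁻¹) ^ p)
    (fun q hq => cn_stab_apply Q M hMQ hxpS hq) h1
  intro q hq
  rw [pow_mul]
  exact h2 q hq

/-- transporting the hypotheses along a surjection -/
theorem cn_transport {G' : Type u} [Group G'] [Finite G] {p : ℕ} [Fact p.Prime] (f : G →* G')
    (hf : Function.Surjective f) (P : Sylow p G) (A : Subgroup G) (hAP : A ≤ (P : Subgroup G))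
    (hAn : ∀ x ∈ (P : Subgroup G), ∀ y ∈ A, x * y * x⁻¹ ∈ A) (hA : IsCyclic A) :
    A.map f ≤ ((P.mapSurjective hf : Sylow p G') : Subgroup G') ∧
      (∀ x ∈ ((P.mapSurjective hf : Sylow p G') : Subgroup G'), ∀ y ∈ A.map f,
        x * y * x⁻¹ ∈ A.map f) ∧ IsCyclic (A.map f) := by
  rw [Sylow.coe_mapSurjective]
  refine ⟨Subgroup.map_mono hAP, ?_, ?_⟩
  · rintro _ ⟨x, hx, rfl⟩ _ ⟨y, hy, rfl⟩
    refine ⟨x * y * x⁻¹, hAn x hx y hy, ?_⟩
    rw [map_mul, map_mul, map_inv]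
  · haveI := hA
    exact isCyclic_of_surjective (f.subgroupMap A) (f.subgroupMap_surjective A)

end CycNorm1

end Cfsg.Agent.Helper13
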