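import Mathlib
import Cfsg.Prelude
import Cfsg.Agent.Helper13.CycNorm1
import Cfsg.Agent.Helper13.PSolv
import Cfsg.Agent.Helper5.PStabSolv
import Cfsg.Agent.Helper5.S4Sec
import Cfsg.Agent.Helper5.ClassTwo
import Cfsg.Agent.Helper10.PComp
import Cfsg.Agent.Helper16.CharP

/-!
# Cyclic normal subgroups of Sylow subgroups of `p`-solvable groups (helper13)

`cn_main`: `G` `p`-solvable, `A` a cyclic normal subgroup of a Sylow `p`-subgroup; if `p` is odd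
or `G` is `S₄`-free then `A ≤ O_{p',p}(G)`.
-/

set_option autoImplicit false
set_option linter.style.haveILetI false
set_option maxHeartbeats 1600000

namespace Cfsg.Agent.Helper13

open Cfsg

universe u

section CycNorm2

/-- the core case: `Q` elementary abelian, normal, self-centralizing, containing every normal
`p`-subgroup -/
theorem cn_core {G : Type u} [Group G] [Finite G] {p : ℕ} [hp : Fact p.Prime]
    (hG : Cfsg.IsPSolvable p G) (Q : Subgroup G) [hQn : Q.Normal]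
    (hQp : ∀ q ∈ Q, q ^ p = 1) (hQc : ∀ x ∈ Q, ∀ y ∈ Q, x * y = y * x)
    (hCQ : Subgroup.centralizer (Q : Set G) ≤ Q)
    (hmax : ∀ N : Subgroup G, N.Normal → IsPGroup p N → N ≤ Q)
    (P : Sylow p G) (A : Subgroup G) (hAP : A ≤ (P : Subgroup G))
    (hAn : ∀ x ∈ (P : Subgroup G), ∀ y ∈ A, x * y * x⁻¹ ∈ A) (hA : IsCyclic A)
    (h : p ≠ 2 ∨ ¬ Cfsg.Involves (Equiv.Perm (Fin 4)) G) : A ≤ Q := by
  classical
  by_contra hAQ
  have hpp := hp.out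
  have hQpg : IsPGroup p Q := by
    rintro ⟨q, hq⟩
    refine ⟨1, Subtype.ext ?_⟩
    show q ^ p ^ 1 = 1
    rw [pow_one]; exact hQp q hq
  have hQP : Q ≤ (P : Subgroup G) := hQpg.le_sylow_of_normal P
  -- a generator
  obtain ⟨⟨a, haA⟩, hgen⟩ := hA.exists_generator
  have hgen' : ∀ x ∈ A, x ∈ Subgroup.zpowers a := by
    intro x hx
    obtain ⟨k, hk⟩ := Subgroup.mem_zpowers_iff.mp (hgen ⟨x, hx⟩)
    rw [Subgroup.mem_zpowers_iff]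
    refine ⟨k, ?_⟩
    have h1 := congrArg Subtype.val hk
    rwa [Subgroup.coe_zpow] at h1
  have haQ : a ∉ Q := by
    intro haQ
    apply hAQ
    intro x hx
    obtain ⟨k, rfl⟩ := Subgroup.mem_zpowers_iff.mp (hgen' x hx)
    exact Q.zpow_mem haQ k
  have hcA : ∀ q ∈ Q, a * q * a⁻¹ * q⁻¹ ∈ A := by
    intro q hq
    have h1 := hAn q (hQP hq) a⁻¹ (A.inv_mem haA)
    have h2 : a * q * a⁻¹ * q⁻¹ = a * (q * a⁻¹ * q⁻¹) := by group
    rw [h2]; exact A.mul_mem haA h1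
  have hcQ : ∀ q ∈ Q, a * q * a⁻¹ * q⁻¹ ∈ Q := by
    intro q hq
    exact Q.mul_mem (hQn.conj_mem q hq a) (Q.inv_mem hq)
  have haN : ∀ n ∈ A, a * n * a⁻¹ = n := by
    intro n hn
    obtain ⟨k, rfl⟩ := Subgroup.mem_zpowers_iff.mp (hgen' n hn)
    group
  have hca : ∀ q ∈ Q, a * (a * q * a⁻¹ * q⁻¹) * a⁻¹ = a * q * a⁻¹ * q⁻¹ :=
    fun q hq => haN _ (hcA q hq)
  have hapQ : a ^ p ∈ Q := by
    apply hCQ
    rw [Subgroup.mem_centralizer_iff]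
    intro q hq
    have h1 := cn_pow_centralizes (p := p) Q (A ⊓ Q)
      (fun n hn => hQp n (Subgroup.mem_inf.mp hn).2) a
      (fun w hw => Subgroup.mem_inf.mpr ⟨hcA w hw, hcQ w hw⟩)
      (fun n hn => haN n (Subgroup.mem_inf.mp hn).1) q hq
    calc q * a ^ p = (a ^ p * q * (a ^ p)⁻¹) * a ^ p := by rw [h1]
      _ = a ^ p * q := by group
  have hF : ∀ k : ℤ, a ^ k ∈ Q → (p : ℤ) ∣ k := by
    intro k hk
    by_contra hnd
    apply haQ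
    have hcop : Int.gcd k p = 1 := by
      have h1 : Nat.Coprime p k.natAbs := by
        rw [Nat.Prime.coprime_iff_not_dvd hpp]
        intro hdvd
        exact hnd (Int.natCast_dvd.mpr hdvd)
      show Nat.gcd k.natAbs ((p : ℤ).natAbs) = 1
      rw [Int.natAbs_natCast]
      exact h1.symm
    have hbez := Int.gcd_eq_gcd_ab k p
    rw [hcop] at hbez
    have h1 : (1 : ℤ) = k * Int.gcdA k p + (p : ℤ) * Int.gcdB k p := by exact_mod_cast hbez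
    have h2 : a = (a ^ k) ^ Int.gcdA k p * (a ^ p) ^ Int.gcdB k p := by
      rw [← zpow_mul, ← zpow_natCast a p, ← zpow_mul, ← zpow_add, ← h1, zpow_one]
    rw [h2]
    exact Q.mul_mem (Q.zpow_mem hk _) (Q.zpow_mem hapQ _)
  obtain ⟨z₀, hz₀def⟩ : ∃ z₀ : G, z₀ = a ^ p := ⟨_, rfl⟩
  have hz₀Q : z₀ ∈ Q := hz₀def ▸ hapQ
  have hz₀p : z₀ ^ p = 1 := hQp z₀ hz₀Q
  have haz₀ : a * z₀ * a⁻¹ = z₀ := by rw [hz₀def]; group
  have hcz : ∀ q ∈ Q, a * q * a⁻¹ * q⁻¹ ∈ Subgroup.zpowers z₀ := by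
    intro q hq
    obtain ⟨k, hk⟩ := Subgroup.mem_zpowers_iff.mp (hgen' _ (hcA q hq))
    have hkQ : a ^ k ∈ Q := by rw [hk]; exact hcQ q hq
    obtain ⟨m, rfl⟩ := hF k hkQ
    rw [← hk, Subgroup.mem_zpowers_iff]
    refine ⟨m, ?_⟩
    rw [hz₀def, ← zpow_natCast, ← zpow_mul]
  have hz₀1 : z₀ ≠ 1 := by
    intro hz1
    apply haQ
    apply hCQ
    rw [Subgroup.mem_centralizer_iff]
    intro q hq
    have h1 := hcz q hq
    rw [hz1, Subgroup.zpowers_one_eq_bot, Subgroup.mem_bot] at h1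
    calc q * a = (a * q * a⁻¹ * q⁻¹)⁻¹ * (a * q) := by group
      _ = a * q := by rw [h1, inv_one, one_mul]
  -- the quotient by `Q`
  have hcore : Cfsg.pCore p (G ⧸ Q) = ⊥ := by
    rw [eq_bot_iff]
    have hn : (Cfsg.pCore p (G ⧸ Q)).Normal := Cfsg.Agent.Helper16.pCore_normal p _
    have hpg : IsPGroup p (Cfsg.pCore p (G ⧸ Q)) := Cfsg.Agent.Helper16.isPGroup_pCore p _
    have h1 : (Cfsg.pCore p (G ⧸ Q)).comap (QuotientGroup.mk' Q) ≤ Q := by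
      apply hmax
      · exact hn.comap _
      · exact hpg.comap_of_ker_isPGroup _ (by rw [QuotientGroup.ker_mk']; exact hQpg)
    intro x hx
    obtain ⟨g, rfl⟩ := QuotientGroup.mk'_surjective Q x
    have hg : g ∈ Q := h1 (Subgroup.mem_comap.mpr hx)
    rw [Subgroup.mem_bot]
    exact (QuotientGroup.eq_one_iff g).mpr hg
  have hGq : Cfsg.IsPSolvable p (G ⧸ Q) := Cfsg.Agent.Helper13.isPSolvable_quotient hG Q
  have hCR := Cfsg.Agent.Helper5.centralizer_pPrimeCore_le hGq hcore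
  obtain ⟨R, hRdef⟩ : ∃ R : Subgroup G,
      R = (Cfsg.pPrimeCore p (G ⧸ Q)).comap (QuotientGroup.mk' Q) := ⟨_, rfl⟩
  haveI hRn : R.Normal := by
    rw [hRdef]
    exact Subgroup.Normal.comap inferInstance _
  have hRmem : ∀ x : G, x ∈ R ↔ QuotientGroup.mk' Q x ∈ Cfsg.pPrimeCore p (G ⧸ Q) := by
    intro x; rw [hRdef]; exact Subgroup.mem_comap
  have hQR : Q ≤ R := by
    intro x hx
    rw [hRmem]
    have h1 : QuotientGroup.mk' Q x = 1 := (QuotientGroup.eq_one_iff x).mpr hx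
    rw [h1]; exact Subgroup.one_mem _
  have hRfact : ∀ x ∈ R, ∀ k : ℕ, x ^ p ^ k ∈ Q → x ∈ Q := by
    intro x hx k hk
    have h1 : (QuotientGroup.mk' Q x) ^ p ^ k = 1 := by
      rw [← map_pow]; exact (QuotientGroup.eq_one_iff _).mpr hk
    have h2 : orderOf (QuotientGroup.mk' Q x) ∣ p ^ k := orderOf_dvd_of_pow_eq_one h1
    have h3 : orderOf (QuotientGroup.mk' Q x) ∣ Nat.card (Cfsg.pPrimeCore p (G ⧸ Q)) :=
      Subgroup.orderOf_dvd_natCard _ ((hRmem x).mp hx)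
    have hcop := Cfsg.Agent.Helper10.pPrimeCore_coprime p (G ⧸ Q)
    have h4 := Nat.eq_one_of_dvd_coprimes (Nat.Coprime.pow_right k hcop) h3 h2
    have h5 : QuotientGroup.mk' Q x = 1 := orderOf_eq_one_iff.mp h4
    exact (QuotientGroup.eq_one_iff x).mp h5
  have hcentQ : ∀ g : G, (∀ q ∈ Q, g * q * g⁻¹ = q) → g ∈ Q := by
    intro g hg
    apply hCQ
    rw [Subgroup.mem_centralizer_iff]
    intro q hq
    have h1 := hg q hq
    calc q * g = (g * q * g⁻¹) * g := by rw [h1]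
      _ = g * q := by group
  obtain ⟨t, htR, htQ⟩ : ∃ t ∈ R, a * t * a⁻¹ * t⁻¹ ∉ Q := by
    by_contra hcon
    push Not at hcon
    apply haQ
    have haR : a ∈ R := by
      rw [hRmem]
      apply hCR
      rw [Subgroup.mem_centralizer_iff]
      intro r hr
      obtain ⟨t, rfl⟩ := QuotientGroup.mk'_surjective Q r
      have htR : t ∈ R := (hRmem t).mpr hr
      have h1 := hcon t htR
      have h2 : QuotientGroup.mk' Q (a * t * a⁻¹ * t⁻¹) = 1 := (QuotientGroup.eq_one_iff _).mpr h1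
      rw [map_mul, map_mul, map_mul, map_inv, map_inv] at h2
      have h3 := mul_inv_eq_one.mp h2
      have h4 := mul_inv_eq_iff_eq_mul.mp h3
      exact h4.symm
    exact hRfact a haR 1 (by rw [pow_one]; exact hapQ)
  obtain ⟨b, hbdef⟩ : ∃ b : G, b = t * a * t⁻¹ := ⟨_, rfl⟩
  obtain ⟨z₁, hz₁def⟩ : ∃ z₁ : G, z₁ = t * z₀ * t⁻¹ := ⟨_, rfl⟩
  have hz₁Q : z₁ ∈ Q := by rw [hz₁def]; exact hQn.conj_mem z₀ hz₀Q t
  have hz₁p : z₁ ^ p = 1 := hQp z₁ hz₁Q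
  have hbp : b ^ p = z₁ := by rw [hbdef, hz₁def, hz₀def, conj_pow]
  have hbz₁ : b * z₁ * b⁻¹ = z₁ := by rw [← hbp]; group
  have hbz : ∀ q ∈ Q, b * q * b⁻¹ * q⁻¹ ∈ Subgroup.zpowers z₁ := by
    intro q hq
    have hq' : t⁻¹ * q * t ∈ Q := by
      have h0 := hQn.conj_mem q hq t⁻¹
      rwa [inv_inv] at h0
    obtain ⟨k, hk⟩ := Subgroup.mem_zpowers_iff.mp (hcz _ hq')
    rw [Subgroup.mem_zpowers_iff]
    refine ⟨k, ?_⟩
    rw [hbdef, hz₁def]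
    calc (t * z₀ * t⁻¹) ^ k = t * z₀ ^ k * t⁻¹ := by rw [conj_zpow]
      _ = t * (a * (t⁻¹ * q * t) * a⁻¹ * (t⁻¹ * q * t)⁻¹) * t⁻¹ := by rw [hk]
      _ = t * a * t⁻¹ * q * (t * a * t⁻¹)⁻¹ * q⁻¹ := by group
  have hxeq : a * b⁻¹ = a * t * a⁻¹ * t⁻¹ := by rw [hbdef]; group
  have hxR : a * b⁻¹ ∈ R := by
    rw [hxeq]
    exact R.mul_mem (hRn.conj_mem t htR a) (R.inv_mem htR)
  have hxQ : a * b⁻¹ ∉ Q := by rw [hxeq]; exact htQ
  have hab : QuotientGroup.mk' R b = QuotientGroup.mk' R a := by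
    have h1 : QuotientGroup.mk' R (a * b⁻¹) = 1 := (QuotientGroup.eq_one_iff _).mpr hxR
    rw [map_mul, map_inv] at h1
    exact (mul_inv_eq_one.mp h1).symm
  -- `a` does not centralize `z₁`, `b` does not centralize `z₀`
  have ha1 : a * z₁ * a⁻¹ ≠ z₁ := by
    intro hc
    have h1 := cn_pair (p := p) Q hQp a b z₀ z₁ hz₀Q hz₁Q hcz hbz haz₀ hbz₁ hc
    have h2 : (a * b⁻¹) ^ p ^ 2 ∈ Q := by
      rw [pow_two]; exact hcentQ _ h1
    exact hxQ (hRfact _ hxR 2 h2)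
  have hb0 : b * z₀ * b⁻¹ ≠ z₀ := by
    intro hc
    have h1 := cn_pair (p := p) Q hQp b a z₁ z₀ hz₁Q hz₀Q hbz hcz hbz₁ haz₀ hc
    have h2 : (b * a⁻¹) ^ p ^ 2 ∈ Q := by
      rw [pow_two]; exact hcentQ _ h1
    have h3 : b * a⁻¹ = (a * b⁻¹)⁻¹ := by group
    have h4 : b * a⁻¹ ∈ R := by rw [h3]; exact R.inv_mem hxR
    have h5 := hRfact _ h4 2 h2
    apply hxQ
    have h6 : a * b⁻¹ = (b * a⁻¹)⁻¹ := by group
    rw [h6]; exact Q.inv_mem h5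
  obtain ⟨c₁, hc₁def⟩ : ∃ c₁ : G, c₁ = a * z₁ * a⁻¹ * z₁⁻¹ := ⟨_, rfl⟩
  obtain ⟨d₁, hd₁def⟩ : ∃ d₁ : G, d₁ = b * z₀ * b⁻¹ * z₀⁻¹ := ⟨_, rfl⟩
  have hc₁mem : c₁ ∈ Subgroup.zpowers z₀ := by rw [hc₁def]; exact hcz z₁ hz₁Q
  have hd₁mem : d₁ ∈ Subgroup.zpowers z₁ := by rw [hd₁def]; exact hbz z₀ hz₀Q
  have hc₁ne : c₁ ≠ 1 := by
    intro h1
    apply ha1
    rw [hc₁def] at h1
    exact mul_inv_eq_one.mp h1
  have hd₁ne : d₁ ≠ 1 := by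
    intro h1
    apply hb0
    rw [hd₁def] at h1
    exact mul_inv_eq_one.mp h1
  have hc₁Q : c₁ ∈ Q := by rw [hc₁def]; exact hcQ z₁ hz₁Q
  have hd₁Q : d₁ ∈ Q := (Subgroup.zpowers_le.mpr hz₁Q) hd₁mem
  have haz₁ : a * z₁ * a⁻¹ = c₁ * z₁ := by rw [hc₁def]; group
  have hbz₀ : b * z₀ * b⁻¹ = d₁ * z₀ := by rw [hd₁def]; group
  -- the subgroup `M`
  obtain ⟨M, hMdef⟩ : ∃ M : Subgroup G, M = Subgroup.closure {z₀, z₁} := ⟨_, rfl⟩
  have hMQ : M ≤ Q := by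
    rw [hMdef, Subgroup.closure_le]
    intro x hx
    rcases hx with rfl | rfl
    · exact hz₀Q
    · exact hz₁Q
  have hz₀M : z₀ ∈ M := by rw [hMdef]; exact Subgroup.subset_closure (by simp)
  have hz₁M : z₁ ∈ M := by rw [hMdef]; exact Subgroup.subset_closure (by simp)
  have hZ₀M : Subgroup.zpowers z₀ ≤ M := Subgroup.zpowers_le.mpr hz₀M
  have hZ₁M : Subgroup.zpowers z₁ ≤ M := Subgroup.zpowers_le.mpr hz₁M
  have haS : a ∈ cnStab Q M hMQ := cn_mem_stab Q M hMQ a (fun q hq => hZ₀M (hcz q hq))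
  have hbS : b ∈ cnStab Q M hMQ := cn_mem_stab Q M hMQ b (fun q hq => hZ₁M (hbz q hq))
  have hMind : ∀ (g : G) (φ : G → G), (∀ x ∈ Q, ∀ y ∈ Q, φ (x * y) = φ x * φ y) →
      (∀ x ∈ Q, φ x⁻¹ = (φ x)⁻¹) → φ 1 = 1 →
      g * z₀ * g⁻¹ = φ z₀ → g * z₁ * g⁻¹ = φ z₁ → ∀ m ∈ M, g * m * g⁻¹ = φ m := by
    intro g φ hmul hinv hone h0 h1 m hm
    have hm' : m ∈ Subgroup.closure ({z₀, z₁} : Set G) := by rw [← hMdef]; exact hm
    induction hm' using Subgroup.closure_induction with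
    | mem x hx =>
      rcases hx with rfl | rfl
      · exact h0
      · exact h1
    | one => rw [hone]; group
    | mul x y hx hy ihx ihy =>
      have hxM : x ∈ M := by rw [hMdef]; exact hx
      have hyM : y ∈ M := by rw [hMdef]; exact hy
      have h2 : g * (x * y) * g⁻¹ = (g * x * g⁻¹) * (g * y * g⁻¹) := by group
      rw [h2, ihx hxM, ihy hyM, hmul x (hMQ hxM) y (hMQ hyM)]
    | inv x hx ih =>
      have hxM : x ∈ M := by rw [hMdef]; exact hx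
      have h2 : g * x⁻¹ * g⁻¹ = (g * x * g⁻¹)⁻¹ := by group
      rw [h2, ih hxM, hinv x (hMQ hxM)]
  rcases hpp.eq_two_or_odd' with hp2 | hodd
  · -- `p = 2`: an `S₄` section
    have hS4 : ¬ Cfsg.Involves (Equiv.Perm (Fin 4)) G := h.resolve_left (fun hne => hne hp2)
    apply hS4
    subst hp2
    have hsq : ∀ q ∈ Q, q * q = 1 := fun q hq => by rw [← pow_two]; exact hQp q hq
    have hc₁eq : c₁ = z₀ := by
      obtain ⟨j, hj⟩ := cn_pow_gen z₀ c₁ hz₀p hc₁mem hc₁ne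
      have hc₁2 : c₁ ^ 2 = 1 := hQp c₁ hc₁Q
      rcases Nat.even_or_odd' j with ⟨m, rfl | rfl⟩
      · exfalso
        apply hz₀1
        rw [← hj, pow_mul, hc₁2, one_pow]
      · rw [← hj, pow_succ, pow_mul, hc₁2, one_pow, one_mul]
    have hd₁eq : d₁ = z₁ := by
      obtain ⟨j, hj⟩ := cn_pow_gen z₁ d₁ hz₁p hd₁mem hd₁ne
      have hd₁2 : d₁ ^ 2 = 1 := hQp d₁ hd₁Q
      have hz₁1 : z₁ ≠ 1 := by
        intro h1
        apply hd₁ne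
        rw [h1, Subgroup.zpowers_one_eq_bot, Subgroup.mem_bot] at hd₁mem
        exact hd₁mem
      rcases Nat.even_or_odd' j with ⟨m, rfl | rfl⟩
      · exfalso
        apply hz₁1
        rw [← hj, pow_mul, hd₁2, one_pow]
      · rw [← hj, pow_succ, pow_mul, hd₁2, one_pow, one_mul]
    rw [hc₁eq] at haz₁
    rw [hd₁eq] at hbz₀
    have ha2 : a * a = z₀ := by rw [hz₀def, pow_two]
    have hb2 : b * b = z₁ := by rw [← hbp, pow_two]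
    have hz01 : z₀ * z₁ = z₁ * z₀ := hQc z₀ hz₀Q z₁ hz₁Q
    have hz00 : z₀ * z₀ = 1 := hsq z₀ hz₀Q
    have hz11 : z₁ * z₁ = 1 := hsq z₁ hz₁Q
    obtain ⟨a', ha'def⟩ : ∃ a' : G, a' = a * z₁ := ⟨_, rfl⟩
    obtain ⟨b', hb'def⟩ : ∃ b' : G, b' = b * z₀ := ⟨_, rfl⟩
    have ha'2 : a' * a' = 1 := by
      rw [ha'def]
      calc a * z₁ * (a * z₁) = (a * z₁ * a⁻¹) * (a * a) * z₁ := by group
        _ = z₀ * z₁ * z₀ * z₁ := by rw [haz₁, ha2]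
        _ = z₀ * (z₁ * z₀) * z₁ := by group
        _ = z₀ * (z₀ * z₁) * z₁ := by rw [hz01]
        _ = (z₀ * z₀) * (z₁ * z₁) := by group
        _ = 1 := by rw [hz00, hz11, one_mul]
    have hb'2 : b' * b' = 1 := by
      rw [hb'def]
      calc b * z₀ * (b * z₀) = (b * z₀ * b⁻¹) * (b * b) * z₀ := by group
        _ = z₁ * z₀ * z₁ * z₀ := by rw [hbz₀, hb2]
        _ = z₁ * (z₀ * z₁) * z₀ := by group
        _ = z₁ * (z₁ * z₀) * z₀ := by rw [hz01]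
        _ = (z₁ * z₁) * (z₀ * z₀) := by group
        _ = 1 := by rw [hz00, hz11, one_mul]
    have ha'inv : a'⁻¹ = a' := inv_eq_of_mul_eq_one_left ha'2
    have hb'inv : b'⁻¹ = b' := inv_eq_of_mul_eq_one_left hb'2
    have ha'conj : ∀ q ∈ Q, a' * q * a'⁻¹ = a * q * a⁻¹ := by
      intro q hq
      rw [ha'def]
      have h1 : z₁ * q = q * z₁ := hQc z₁ hz₁Q q hq
      calc a * z₁ * q * (a * z₁)⁻¹ = a * (z₁ * q) * z₁⁻¹ * a⁻¹ := by group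
        _ = a * (q * z₁) * z₁⁻¹ * a⁻¹ := by rw [h1]
        _ = a * q * a⁻¹ := by group
    have hb'conj : ∀ q ∈ Q, b' * q * b'⁻¹ = b * q * b⁻¹ := by
      intro q hq
      rw [hb'def]
      have h1 : z₀ * q = q * z₀ := hQc z₀ hz₀Q q hq
      calc b * z₀ * q * (b * z₀)⁻¹ = b * (z₀ * q) * z₀⁻¹ * b⁻¹ := by group
        _ = b * (q * z₀) * z₀⁻¹ * b⁻¹ := by rw [h1]
        _ = b * q * b⁻¹ := by group
    obtain ⟨y₀, hy₀def⟩ : ∃ y₀ : G, y₀ = a' * b' := ⟨_, rfl⟩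
    have hy₀z₀ : y₀ * z₀ * y₀⁻¹ = z₁ := by
      rw [hy₀def]
      calc a' * b' * z₀ * (a' * b')⁻¹ = a' * (b' * z₀ * b'⁻¹) * a'⁻¹ := by group
        _ = a' * (z₁ * z₀) * a'⁻¹ := by rw [hb'conj z₀ hz₀Q, hbz₀]
        _ = a * (z₁ * z₀) * a⁻¹ := ha'conj _ (Q.mul_mem hz₁Q hz₀Q)
        _ = (a * z₁ * a⁻¹) * (a * z₀ * a⁻¹) := by group
        _ = z₀ * z₁ * z₀ := by rw [haz₁, haz₀]
        _ = z₀ * (z₁ * z₀) := by group
        _ = z₀ * (z₀ * z₁) := by rw [hz01]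
        _ = (z₀ * z₀) * z₁ := by group
        _ = z₁ := by rw [hz00, one_mul]
    have hy₀z₁ : y₀ * z₁ * y₀⁻¹ = z₀ * z₁ := by
      rw [hy₀def]
      calc a' * b' * z₁ * (a' * b')⁻¹ = a' * (b' * z₁ * b'⁻¹) * a'⁻¹ := by group
        _ = a' * z₁ * a'⁻¹ := by rw [hb'conj z₁ hz₁Q, hbz₁]
        _ = a * z₁ * a⁻¹ := ha'conj _ hz₁Q
        _ = z₀ * z₁ := haz₁
    have hpow3 : y₀ ^ 3 = y₀ * y₀ * y₀ := by rw [pow_succ, pow_two]
    have hy3z₀ : y₀ ^ 3 * z₀ * (y₀ ^ 3)⁻¹ = z₀ := by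
      calc y₀ ^ 3 * z₀ * (y₀ ^ 3)⁻¹ = y₀ * (y₀ * (y₀ * z₀ * y₀⁻¹) * y₀⁻¹) * y₀⁻¹ := by
            rw [hpow3]; group
        _ = y₀ * (y₀ * z₁ * y₀⁻¹) * y₀⁻¹ := by rw [hy₀z₀]
        _ = y₀ * (z₀ * z₁) * y₀⁻¹ := by rw [hy₀z₁]
        _ = (y₀ * z₀ * y₀⁻¹) * (y₀ * z₁ * y₀⁻¹) := by group
        _ = z₁ * (z₀ * z₁) := by rw [hy₀z₀, hy₀z₁]
        _ = z₁ * (z₁ * z₀) := by rw [hz01]
        _ = (z₁ * z₁) * z₀ := by group
        _ = z₀ := by rw [hz11, one_mul]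
    have hy3z₁ : y₀ ^ 3 * z₁ * (y₀ ^ 3)⁻¹ = z₁ := by
      calc y₀ ^ 3 * z₁ * (y₀ ^ 3)⁻¹ = y₀ * (y₀ * (y₀ * z₁ * y₀⁻¹) * y₀⁻¹) * y₀⁻¹ := by
            rw [hpow3]; group
        _ = y₀ * (y₀ * (z₀ * z₁) * y₀⁻¹) * y₀⁻¹ := by rw [hy₀z₁]
        _ = y₀ * ((y₀ * z₀ * y₀⁻¹) * (y₀ * z₁ * y₀⁻¹)) * y₀⁻¹ := by group
        _ = y₀ * (z₁ * (z₀ * z₁)) * y₀⁻¹ := by rw [hy₀z₀, hy₀z₁]
        _ = y₀ * (z₁ * (z₁ * z₀)) * y₀⁻¹ := by rw [hz01]
        _ = y₀ * ((z₁ * z₁) * z₀) * y₀⁻¹ := by group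
        _ = y₀ * z₀ * y₀⁻¹ := by rw [hz11, one_mul]
        _ = z₁ := hy₀z₀
    have hy3M : ∀ m ∈ M, y₀ ^ 3 * m * (y₀ ^ 3)⁻¹ = m :=
      hMind (y₀ ^ 3) id (fun _ _ _ _ => rfl) (fun _ _ => rfl) rfl hy3z₀ hy3z₁
    have ha'S : a' ∈ cnStab Q M hMQ := by
      rw [ha'def]
      exact Subgroup.mul_mem _ haS (cn_mem_stab Q M hMQ z₁ (fun q hq => by
        have h1 : z₁ * q * z₁⁻¹ * q⁻¹ = 1 := by
          rw [hQc z₁ hz₁Q q hq]; group
        rw [h1]; exact M.one_mem))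
    have hb'S : b' ∈ cnStab Q M hMQ := by
      rw [hb'def]
      exact Subgroup.mul_mem _ hbS (cn_mem_stab Q M hMQ z₀ (fun q hq => by
        have h1 : z₀ * q * z₀⁻¹ * q⁻¹ = 1 := by
          rw [hQc z₀ hz₀Q q hq]; group
        rw [h1]; exact M.one_mem))
    have hy₀S : y₀ ∈ cnStab Q M hMQ := by rw [hy₀def]; exact Subgroup.mul_mem _ ha'S hb'S
    have hy3S : y₀ ^ 3 ∈ cnStab Q M hMQ := Subgroup.pow_mem _ hy₀S 3
    have h6 := cn_pow_centralizes (p := 2) Q M (fun n hn => hQp n (hMQ hn)) (y₀ ^ 3)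
      (fun q hq => cn_stab_apply Q M hMQ hy3S hq) hy3M
    have hy6Q : (y₀ ^ 3) ^ 2 ∈ Q := hcentQ _ h6
    have hy₀R : y₀ ∈ R := by
      apply (QuotientGroup.eq_one_iff _).mp
      show QuotientGroup.mk' R y₀ = 1
      have hz₀R : QuotientGroup.mk' R z₀ = 1 := (QuotientGroup.eq_one_iff _).mpr (hQR hz₀Q)
      have hz₁R : QuotientGroup.mk' R z₁ = 1 := (QuotientGroup.eq_one_iff _).mpr (hQR hz₁Q)
      rw [hy₀def, ha'def, hb'def, map_mul, map_mul, map_mul, hz₀R, hz₁R, hab, mul_one,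
        ← map_mul, ha2, hz₀R]
    have hy3Q : y₀ ^ 3 ∈ Q := hRfact _ (R.pow_mem hy₀R 3) 1 (by rw [pow_one]; exact hy6Q)
    have hy6 : (y₀ ^ 3) ^ 2 = 1 := hQp _ hy3Q
    obtain ⟨y, hydef⟩ : ∃ y : G, y = y₀ ^ 4 := ⟨_, rfl⟩
    have hy3 : y ^ 3 = 1 := by
      rw [hydef, ← pow_mul]
      have h1 : 4 * 3 = 3 * 2 * 2 := by norm_num
      rw [h1, pow_mul, pow_mul, hy6, one_pow]
    have ha'y₀ : a' * y₀ * a'⁻¹ = y₀⁻¹ := by
      rw [hy₀def, mul_inv_rev, ha'inv, hb'inv]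
      calc a' * (a' * b') * a' = (a' * a') * b' * a' := by group
        _ = b' * a' := by rw [ha'2, one_mul]
    have hay : a' * y * a'⁻¹ = y⁻¹ := by
      rw [hydef, ← conj_pow, ha'y₀, inv_pow]
    have hyz₀ : y * z₀ * y⁻¹ = z₁ := by
      have h1 : y = y₀ * y₀ ^ 3 := by rw [hydef]; group
      rw [h1]
      calc y₀ * y₀ ^ 3 * z₀ * (y₀ * y₀ ^ 3)⁻¹ = y₀ * (y₀ ^ 3 * z₀ * (y₀ ^ 3)⁻¹) * y₀⁻¹ := by group
        _ = y₀ * z₀ * y₀⁻¹ := by rw [hy3z₀]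
        _ = z₁ := hy₀z₀
    have hz10 : z₁ ≠ z₀ := by
      intro h1
      apply ha1
      rw [h1]; exact haz₀
    have hy1 : y ≠ 1 := by
      intro h1
      apply hz10
      rw [← hyz₀, h1]; group
    haveI : Fact (Nat.Prime 3) := ⟨Nat.prime_three⟩
    have hord : orderOf y = 3 := orderOf_eq_prime hy3 hy1
    exact Cfsg.Agent.Helper5.S4Sec.s4_of_config Q hsq a' y
      (fun v hv => hQn.conj_mem v hv a') (fun v hv => hQn.conj_mem v hv y) ha'2 hay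
      (by rw [hord]; decide) (fun v _ => by rw [hy3, one_mul, mul_one])
      ⟨z₀, hz₀Q, fun hcomm => hz10 (by
        rw [← hyz₀, hcomm]; group)⟩
  · -- `p` odd: a centralizing element inverting `z₀`
    obtain ⟨j, hj⟩ := cn_pow_gen z₀ c₁ hz₀p hc₁mem hc₁ne
    have hz₁inv_p : (z₁⁻¹) ^ p = 1 := by rw [inv_pow, hz₁p, inv_one]
    have hd₁mem' : d₁ ∈ Subgroup.zpowers z₁⁻¹ := by rw [Subgroup.zpowers_inv]; exact hd₁mem
    obtain ⟨j', hj'⟩ := cn_pow_gen z₁⁻¹ d₁ hz₁inv_p hd₁mem' hd₁ne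
    obtain ⟨u, hudef⟩ : ∃ u : G, u = a ^ j := ⟨_, rfl⟩
    obtain ⟨l, hldef⟩ : ∃ l : G, l = b ^ j' := ⟨_, rfl⟩
    have huz₀ : u * z₀ * u⁻¹ = z₀ := by rw [hudef, hz₀def]; group
    have hlz₁ : l * z₁ * l⁻¹ = z₁ := by rw [hldef, ← hbp]; group
    have huz₁ : u * z₁ * u⁻¹ = z₀ * z₁ := by
      rw [hudef, cn_conj_pow a z₁ (hca z₁ hz₁Q) j, ← hc₁def, hj]
    have hbd₁ : b * (b * z₀ * b⁻¹ * z₀⁻¹) * b⁻¹ = b * z₀ * b⁻¹ * z₀⁻¹ := by
      rw [← hd₁def]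
      obtain ⟨k, hk⟩ := Subgroup.mem_zpowers_iff.mp hd₁mem
      rw [← hk, ← conj_zpow, hbz₁]
    have hlz₀ : l * z₀ * l⁻¹ = z₁⁻¹ * z₀ := by
      rw [hldef, cn_conj_pow b z₀ hbd₁ j', ← hd₁def, hj']
    obtain ⟨w, hwdef⟩ : ∃ w : G, w = u * l * u := ⟨_, rfl⟩
    have hz01 : z₀ * z₁ = z₁ * z₀ := hQc z₀ hz₀Q z₁ hz₁Q
    have hwz₀ : w * z₀ * w⁻¹ = z₁⁻¹ := by
      rw [hwdef]
      calc u * l * u * z₀ * (u * l * u)⁻¹ = u * (l * (u * z₀ * u⁻¹) * l⁻¹) * u⁻¹ := by group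
        _ = u * (z₁⁻¹ * z₀) * u⁻¹ := by rw [huz₀, hlz₀]
        _ = (u * z₁ * u⁻¹)⁻¹ * (u * z₀ * u⁻¹) := by group
        _ = (z₀ * z₁)⁻¹ * z₀ := by rw [huz₁, huz₀]
        _ = z₁⁻¹ := by group
    have hwz₁ : w * z₁ * w⁻¹ = z₀ := by
      rw [hwdef]
      calc u * l * u * z₁ * (u * l * u)⁻¹ = u * (l * (u * z₁ * u⁻¹) * l⁻¹) * u⁻¹ := by group
        _ = u * (l * (z₀ * z₁) * l⁻¹) * u⁻¹ := by rw [huz₁]
        _ = u * ((l * z₀ * l⁻¹) * (l * z₁ * l⁻¹)) * u⁻¹ := by group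
        _ = u * (z₁⁻¹ * z₀ * z₁) * u⁻¹ := by rw [hlz₀, hlz₁]
        _ = u * (z₁⁻¹ * (z₀ * z₁)) * u⁻¹ := by group
        _ = u * (z₁⁻¹ * (z₁ * z₀)) * u⁻¹ := by rw [hz01]
        _ = u * z₀ * u⁻¹ := by group
        _ = z₀ := huz₀
    obtain ⟨y, hydef⟩ : ∃ y : G, y = w * w := ⟨_, rfl⟩
    have hyz₀ : y * z₀ * y⁻¹ = z₀⁻¹ := by
      rw [hydef]
      calc w * w * z₀ * (w * w)⁻¹ = w * (w * z₀ * w⁻¹) * w⁻¹ := by group
        _ = w * z₁⁻¹ * w⁻¹ := by rw [hwz₀]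
        _ = (w * z₁ * w⁻¹)⁻¹ := by group
        _ = z₀⁻¹ := by rw [hwz₁]
    have hyz₁ : y * z₁ * y⁻¹ = z₁⁻¹ := by
      rw [hydef]
      calc w * w * z₁ * (w * w)⁻¹ = w * (w * z₁ * w⁻¹) * w⁻¹ := by group
        _ = w * z₀ * w⁻¹ := by rw [hwz₁]
        _ = z₁⁻¹ := hwz₀
    have hyM : ∀ m ∈ M, y * m * y⁻¹ = m⁻¹ := by
      apply hMind y (fun m => m⁻¹)
      · intro x hx z hz
        rw [mul_inv_rev]
        exact hQc _ (Q.inv_mem hz) _ (Q.inv_mem hx)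
      · intro x _; rfl
      · exact inv_one
      · exact hyz₀
      · exact hyz₁
    have hyS : y ∈ cnStab Q M hMQ := by
      rw [hydef, hwdef, hudef, hldef]
      have hu := Subgroup.pow_mem _ haS j
      have hl := Subgroup.pow_mem _ hbS j'
      have hw := Subgroup.mul_mem _ (Subgroup.mul_mem _ hu hl) hu
      exact Subgroup.mul_mem _ hw hw
    obtain ⟨x', hx'def⟩ : ∃ x' : G, x' = y * a * y⁻¹ * a⁻¹ := ⟨_, rfl⟩
    have hx'S : x' ∈ cnStab Q M hMQ := by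
      rw [hx'def]
      exact Subgroup.mul_mem _ (Subgroup.mul_mem _ (Subgroup.mul_mem _ hyS haS)
        (Subgroup.inv_mem _ hyS)) (Subgroup.inv_mem _ haS)
    have hx'M : ∀ m ∈ M, x' * m * x'⁻¹ = m := by
      intro m hm
      have hm₁ : a⁻¹ * m * a ∈ M := by
        have h1 := cn_stab_apply' Q M hMQ haS (hMQ hm)
        have h2 : a⁻¹ * m * a = (a⁻¹ * m * a * m⁻¹) * m := by group
        rw [h2]; exact M.mul_mem h1 hm
      have h3 : y⁻¹ * (a⁻¹ * m * a) * y = (a⁻¹ * m * a)⁻¹ := by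
        have h4 := hyM _ (M.inv_mem hm₁)
        rw [inv_inv] at h4
        calc y⁻¹ * (a⁻¹ * m * a) * y = y⁻¹ * (y * (a⁻¹ * m * a)⁻¹ * y⁻¹) * y := by rw [h4]
          _ = (a⁻¹ * m * a)⁻¹ := by group
      have h5 : y * m⁻¹ * y⁻¹ = m := by
        have h6 := hyM _ (M.inv_mem hm)
        rwa [inv_inv] at h6
      rw [hx'def]
      calc y * a * y⁻¹ * a⁻¹ * m * (y * a * y⁻¹ * a⁻¹)⁻¹
          = y * (a * (y⁻¹ * (a⁻¹ * m * a) * y) * a⁻¹) * y⁻¹ := by group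
        _ = y * (a * (a⁻¹ * m * a)⁻¹ * a⁻¹) * y⁻¹ := by rw [h3]
        _ = y * m⁻¹ * y⁻¹ := by group
        _ = m := h5
    have h7 := cn_pow_centralizes (p := p) Q M (fun n hn => hQp n (hMQ hn)) x'
      (fun q hq => cn_stab_apply Q M hMQ hx'S hq) hx'M
    have hx'pQ : x' ^ p ∈ Q := hcentQ _ h7
    have hx'R : x' ∈ R := by
      apply (QuotientGroup.eq_one_iff _).mp
      show QuotientGroup.mk' R x' = 1
      obtain ⟨α, hα⟩ : ∃ α : G ⧸ R, α = QuotientGroup.mk' R a := ⟨_, rfl⟩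
      have hcomm : Commute (α ^ j * α ^ j' * α ^ j * (α ^ j * α ^ j' * α ^ j)) α := by
        have h1 : Commute (α ^ j) α := (Commute.refl α).pow_left j
        have h2 : Commute (α ^ j') α := (Commute.refl α).pow_left j'
        have h3 : Commute (α ^ j * α ^ j' * α ^ j) α := (h1.mul_left h2).mul_left h1
        exact h3.mul_left h3
      rw [hx'def, hydef, hwdef, hudef, hldef]
      simp only [map_mul, map_inv, map_pow]
      rw [hab, ← hα]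
      rw [hcomm.eq]
      group
    have hx'Q : x' ∈ Q := hRfact x' hx'R 1 (by rw [pow_one]; exact hx'pQ)
    -- Lemma L
    have hL : y * z₀ * y⁻¹ = z₀ := by
      have h8 := cn_pow_mul hodd hpp Q hQp hQc a hcQ hca x' hx'Q
      have h9 : y * a * y⁻¹ = x' * a := by rw [hx'def]; group
      rw [hz₀def, ← conj_pow, h9, h8]
    have hz₀inv : z₀⁻¹ = z₀ := by rw [← hyz₀, hL]
    have hz₀sq : z₀ ^ 2 = 1 := by
      rw [pow_two]
      nth_rewrite 1 [← hz₀inv]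
      exact inv_mul_cancel z₀
    obtain ⟨m, hm⟩ := hodd
    apply hz₀1
    have h10 : z₀ ^ p = (z₀ ^ 2) ^ m * z₀ := by rw [hm, pow_succ, pow_mul]
    rw [h10, hz₀sq, one_pow, one_mul] at hz₀p
    exact hz₀p

/-- the case `O_{p'}(G) = 1` -/
theorem cn_pcore {G : Type u} [Group G] [Finite G] {p : ℕ} [hp : Fact p.Prime]
    (hG : Cfsg.IsPSolvable p G) (hO : Cfsg.pPrimeCore p G = ⊥)
    (P : Sylow p G) (A : Subgroup G) (hAP : A ≤ (P : Subgroup G))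
    (hAn : ∀ x ∈ (P : Subgroup G), ∀ y ∈ A, x * y * x⁻¹ ∈ A) (hA : IsCyclic A)
    (h : p ≠ 2 ∨ ¬ Cfsg.Involves (Equiv.Perm (Fin 4)) G) : A ≤ Cfsg.pCore p G := by
  classical
  obtain ⟨Q, hQdef⟩ : ∃ Q : Subgroup G, Q = Cfsg.pCore p G := ⟨_, rfl⟩
  rw [← hQdef]
  haveI hQn : Q.Normal := by rw [hQdef]; exact Cfsg.Agent.Helper16.pCore_normal p G
  have hQp : IsPGroup p Q := by rw [hQdef]; exact Cfsg.Agent.Helper16.isPGroup_pCore p G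
  have hCQ : Subgroup.centralizer (Q : Set G) ≤ Q := by
    rw [hQdef]; exact Cfsg.Agent.Helper13.centralizer_pCore_le_of_isPSolvable hG hO
  have hmax : ∀ N : Subgroup G, N.Normal → IsPGroup p N → N ≤ Q := by
    intro N hNn hNp; rw [hQdef]; exact Cfsg.Agent.Helper16.le_pCore hNn hNp
  obtain ⟨Φ, hΦdef⟩ : ∃ Φ : Subgroup G, Φ = (frattini ↥Q).map Q.subtype := ⟨_, rfl⟩
  haveI hΦn : Φ.Normal := by
    rw [hΦdef]; exact ConjAct.normal_of_characteristic_of_normal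
  have hΦQ : Φ ≤ Q := by rw [hΦdef]; exact Subgroup.map_subtype_le _
  have hfr := Cfsg.Agent.Helper10.tc_frattini hQp
  have hπs := QuotientGroup.mk'_surjective Φ
  obtain ⟨hAP', hAn', hA'⟩ := cn_transport (QuotientGroup.mk' Φ) hπs P A hAP hAn hA
  haveI hQ'n : (Q.map (QuotientGroup.mk' Φ)).Normal := hQn.map _ hπs
  have e1 : ∀ q ∈ Q.map (QuotientGroup.mk' Φ), q ^ p = 1 := by
    rintro _ ⟨q, hq, rfl⟩
    rw [← map_pow]
    apply (QuotientGroup.eq_one_iff _).mpr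
    rw [hΦdef]
    exact ⟨⟨q, hq⟩ ^ p, hfr.1 ⟨q, hq⟩, rfl⟩
  have e2 : ∀ x ∈ Q.map (QuotientGroup.mk' Φ), ∀ y ∈ Q.map (QuotientGroup.mk' Φ),
      x * y = y * x := by
    rintro _ ⟨x, hx, rfl⟩ _ ⟨y, hy, rfl⟩
    rw [← map_mul, ← map_mul]
    show (QuotientGroup.mk (x * y) : G ⧸ Φ) = QuotientGroup.mk (y * x)
    apply QuotientGroup.eq.mpr
    rw [hΦdef]
    refine ⟨(⟨y, hy⟩ : ↥Q)⁻¹ * (⟨x, hx⟩ : ↥Q)⁻¹ * ((⟨y, hy⟩ : ↥Q)⁻¹)⁻¹ * ((⟨x, hx⟩ : ↥Q)⁻¹)⁻¹,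
      hfr.2 _ _, ?_⟩
    show y⁻¹ * x⁻¹ * y⁻¹⁻¹ * x⁻¹⁻¹ = (x * y)⁻¹ * (y * x)
    group
  have e3 : Subgroup.centralizer ((Q.map (QuotientGroup.mk' Φ) : Subgroup (G ⧸ Φ)) : Set (G ⧸ Φ))
      ≤ Q.map (QuotientGroup.mk' Φ) := by
    intro x hx
    obtain ⟨g, rfl⟩ := hπs x
    refine ⟨g, ?_, rfl⟩
    apply cn_frattini_faithful Q hQp hCQ hmax g
    intro q hq
    rw [← hΦdef]
    have h1 := Subgroup.mem_centralizer_iff.mp hx _ (Subgroup.mem_map_of_mem _ hq)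
    apply (QuotientGroup.eq_one_iff _).mp
    show QuotientGroup.mk' Φ (g * q * g⁻¹ * q⁻¹) = 1
    rw [map_mul, map_mul, map_mul, map_inv, map_inv, ← h1]
    group
  have e4 : ∀ N : Subgroup (G ⧸ Φ), N.Normal → IsPGroup p N →
      N ≤ Q.map (QuotientGroup.mk' Φ) := by
    intro N hNn hNp
    have h1 : N.comap (QuotientGroup.mk' Φ) ≤ Q := by
      apply hmax _ (hNn.comap _)
      exact hNp.comap_of_ker_isPGroup _ (by rw [QuotientGroup.ker_mk']; exact hQp.to_le hΦQ)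
    intro x hx
    obtain ⟨g, rfl⟩ := hπs x
    exact ⟨g, h1 (Subgroup.mem_comap.mpr hx), rfl⟩
  have e5 : p ≠ 2 ∨ ¬ Cfsg.Involves (Equiv.Perm (Fin 4)) (G ⧸ Φ) := by
    rcases h with h | h
    · exact Or.inl h
    · exact Or.inr (fun hinv => h (Cfsg.Agent.Helper5.ClassTwo.involves_of_surj _ hπs hinv))
  have key := cn_core (Cfsg.Agent.Helper13.isPSolvable_quotient hG Φ)
    (Q.map (QuotientGroup.mk' Φ)) e1 e2 e3 e4 (P.mapSurjective hπs)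
    (A.map (QuotientGroup.mk' Φ)) hAP' hAn' hA' e5
  intro x hx
  obtain ⟨q, hq, hqx⟩ := key (Subgroup.mem_map_of_mem _ hx)
  have h2 : q⁻¹ * x ∈ Φ := by
    apply (QuotientGroup.eq_one_iff _).mp
    show QuotientGroup.mk' Φ (q⁻¹ * x) = 1
    rw [map_mul, map_inv, hqx, inv_mul_cancel]
  have h3 : x = q * (q⁻¹ * x) := by group
  rw [h3]; exact Q.mul_mem hq (hΦQ h2)

/-- `A ≤ O_{p',p}(G)` for a cyclic normal subgroup `A` of a Sylow `p`-subgroup of a `p`-solvable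
group, if `p` is odd or `G` is `S₄`-free -/
theorem cn_main {G : Type u} [Group G] [Finite G] {p : ℕ} [Fact p.Prime]
    (hG : Cfsg.IsPSolvable p G) (P : Sylow p G) (A : Subgroup G) (hAP : A ≤ (P : Subgroup G))
    (hAn : (P : Subgroup G) ≤ Subgroup.normalizer (A : Set G)) (hA : IsCyclic A)
    (h : p ≠ 2 ∨ ¬ Cfsg.Involves (Equiv.Perm (Fin 4)) G) : A ≤ Cfsg.pPrimePCore p G := by
  have hπs := QuotientGroup.mk'_surjective (Cfsg.pPrimeCore p G)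
  have hAn0 : ∀ x ∈ (P : Subgroup G), ∀ y ∈ A, x * y * x⁻¹ ∈ A := by
    intro x hx y hy
    exact (Subgroup.mem_normalizer_iff.mp (hAn hx) y).mp hy
  obtain ⟨hAP', hAn', hA'⟩ :=
    cn_transport (QuotientGroup.mk' (Cfsg.pPrimeCore p G)) hπs P A hAP hAn0 hA
  have h' : p ≠ 2 ∨ ¬ Cfsg.Involves (Equiv.Perm (Fin 4)) (G ⧸ Cfsg.pPrimeCore p G) := by
    rcases h with h | h
    · exact Or.inl h
    · exact Or.inr (fun hinv => h (Cfsg.Agent.Helper5.ClassTwo.involves_of_surj _ hπs hinv))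
  have key := cn_pcore (Cfsg.Agent.Helper13.isPSolvable_quotient hG (Cfsg.pPrimeCore p G))
    (Cfsg.Agent.Helper10.pPrimeCore_quotient p G) (P.mapSurjective hπs) _ hAP' hAn' hA' h'
  intro x hx
  show QuotientGroup.mk' (Cfsg.pPrimeCore p G) x ∈ Cfsg.pCore p (G ⧸ Cfsg.pPrimeCore p G)
  exact key (Subgroup.mem_map_of_mem _ hx)

end CycNorm2

end Cfsg.Agent.Helper13
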