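import Mathlib
import Cfsg.Agent.Helper13.KStab
import Cfsg.Agent.S1969

set_option autoImplicit false
universe u

namespace Cfsg.Agent.Helper13

open Cfsg Cfsg.Agent.Helper17
open scoped commutatorElement

section KStab2

variable {G : Type u} [Group G] [Finite G] {p : ℕ} [Fact p.Prime]

/-- if all terms of the K-sequence of `S` of nonnegative index lie in `T`, the K-infinity
subgroups of `S` are those of `T`. -/
theorem kinf_eq_of_seq_le (S : Sylow p G) (T : Subgroup G) (hTS : T ≤ (S : Subgroup G))
    (hseq : ∀ n : ℕ, kSeqEven ↥(S : Subgroup G) n ≤ T.subgroupOf (S : Subgroup G) ∧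
      kSeqOdd ↥(S : Subgroup G) (n + 1) ≤ T.subgroupOf (S : Subgroup G)) :
    inducedFunctor kInfLower (S : Subgroup G) = inducedFunctor kInfLower T ∧
      inducedFunctor kInfUpper (S : Subgroup G) = inducedFunctor kInfUpper T := by
  have hT'map : (T.subgroupOf (S : Subgroup G)).map (S : Subgroup G).subtype = T :=
    Subgroup.map_subgroupOf_eq_of_le hTS
  have hinj := Subgroup.subtype_injective (S : Subgroup G)
  have hSp : IsPGroup p ↥(S : Subgroup G) := S.2
  have h79 := Cfsg.Agent.S1979.result hSp (T.subgroupOf (S : Subgroup G)) hseq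
  have hT'p : IsPGroup p ↥(T.subgroupOf (S : Subgroup G)) := hSp.to_subgroup _
  constructor
  · have hL := inducedFunctor_map kInfLower (isCharPFunctor_kInfLower p)
      (S : Subgroup G).subtype hinj (T.subgroupOf (S : Subgroup G)) hT'p
    rw [hT'map] at hL
    rw [hL]
    show (kInfLower ↥(S : Subgroup G)).map (S : Subgroup G).subtype =
      ((kInfLower ↥(T.subgroupOf (S : Subgroup G))).map
        (T.subgroupOf (S : Subgroup G)).subtype).map (S : Subgroup G).subtype
    rw [h79.1]
  · have hL := inducedFunctor_map kInfUpper (isCharPFunctor_kInfUpper p)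
      (S : Subgroup G).subtype hinj (T.subgroupOf (S : Subgroup G)) hT'p
    rw [hT'map] at hL
    rw [hL]
    show (kInfUpper ↥(S : Subgroup G)).map (S : Subgroup G).subtype =
      ((kInfUpper ↥(T.subgroupOf (S : Subgroup G))).map
        (T.subgroupOf (S : Subgroup G)).subtype).map (S : Subgroup G).subtype
    rw [h79.2]

/-- **Theorem K for `p`-stable groups**: if all sections of `G` are `p`-stable in the
normalizer form and `C_G(O_p(G)) ≤ O_p(G)`, the K-infinity subgroups of a Sylow `p`-subgroup
are normal in `G`. -/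
theorem kinf_normal_of_pstable (S : Sylow p G)
    (hst : ∀ (K R : Subgroup G) [hR : (R.subgroupOf K).Normal],
      IsNormalizerPStable p (↥K ⧸ R.subgroupOf K))
    (hC : Subgroup.centralizer ((pCore p G : Subgroup G) : Set G) ≤ pCore p G) :
    (inducedFunctor kInfLower (S : Subgroup G)).Normal ∧
      (inducedFunctor kInfUpper (S : Subgroup G)).Normal := by
  haveI := pCore_normal' p G
  have hTp := pCore_isPGroup p G
  obtain ⟨A, hAn, hAT, hA3, hA4⟩ := exists_critical_normal (pCore p G) hTp
  haveI := hAn
  have hTS : pCore p G ≤ (S : Subgroup G) := pCore_le_sylow S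
  have hAS : A ≤ (S : Subgroup G) := hAT.trans hTS
  have hA'map : (A.subgroupOf (S : Subgroup G)).map (S : Subgroup G).subtype = A :=
    Subgroup.map_subgroupOf_eq_of_le hAS
  have hT'map : ((pCore p G).subgroupOf (S : Subgroup G)).map (S : Subgroup G).subtype =
      pCore p G := Subgroup.map_subgroupOf_eq_of_le hTS
  have hinj := Subgroup.subtype_injective (S : Subgroup G)
  have hZ'map : (A.subgroupOf (S : Subgroup G) ⊓ Subgroup.centralizer
      ((A.subgroupOf (S : Subgroup G) : Subgroup ↥(S : Subgroup G)) : Set ↥(S : Subgroup G))).map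
      (S : Subgroup G).subtype = A ⊓ Subgroup.centralizer (A : Set G) := by
    rw [map_inf_centralizer, hA'map]
  have hseq := kSeq_le_of_good2 ((pCore p G).subgroupOf (S : Subgroup G))
    (A.subgroupOf (S : Subgroup G))
    ((Subgroup.map_le_map_iff_of_injective hinj).mp (by rw [hA'map, hT'map]; exact hAT))
    ((Subgroup.map_le_map_iff_of_injective hinj).mp (by
      rw [Subgroup.map_commutator, hZ'map, hA'map, hT'map]; exact hA3))
    (by
      intro g h1 h2
      show (g : G) ∈ pCore p G
      apply mem_pCore_of_quad hst hC A hAT hA4 (g : G)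
      · have h3 := Subgroup.map_mono (f := (S : Subgroup G).subtype) h1
        rw [Subgroup.map_commutator, Subgroup.map_commutator, hZ'map, hA'map,
          MonoidHom.map_zpowers] at h3
        exact h3
      · have h3 := congrArg (Subgroup.map (S : Subgroup G).subtype) h2
        rw [Subgroup.map_commutator, Subgroup.map_commutator, hZ'map, MonoidHom.map_zpowers,
          Subgroup.map_bot] at h3
        exact h3)
    (by
      intro Q' B' hAQ' hB'
      have hB := (kLower_map_iff (S : Subgroup G) Q' B').mpr hB'
      have hAQ : A ≤ Q'.map (S : Subgroup G).subtype := by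
        rw [← hA'map]; exact Subgroup.map_mono hAQ'
      have hBp : IsPGroup p ↥(B'.map (S : Subgroup G).subtype) := (S.2.to_subgroup B').map _
      have h1 := kLower_le_pCore hst hC A hAT hA3 hA4 _ _ hAQ hB hBp
      exact (Subgroup.map_le_map_iff_of_injective hinj).mp (by rw [hT'map]; exact h1))
  have h := kinf_eq_of_seq_le S (pCore p G) hTS hseq
  constructor
  · rw [h.1]
    exact inducedFunctor_normal_of_normal kInfLower (isCharPFunctor_kInfLower p) _ hTp
  · rw [h.2]
    exact inducedFunctor_normal_of_normal kInfUpper (isCharPFunctor_kInfUpper p) _ hTp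

/-- a functor that is normal in the constrained sections with `p`-stable sections controls
strong fusion in a group all of whose sections are `p`-stable. -/
theorem ctl_of_pstable_loc (W : ∀ (Q : Type u) [Group Q], Subgroup Q)
    (hW : IsCharPFunctor.{u} p W)
    (hloc : ∀ (Y : Type u) [Group Y] [Finite Y],
      (∀ (K R : Subgroup Y) [hR : (R.subgroupOf K).Normal],
        IsNormalizerPStable p (↥K ⧸ R.subgroupOf K)) →
      Subgroup.centralizer ((pCore p Y : Subgroup Y) : Set Y) ≤ pCore p Y →
      ∀ T : Sylow p Y, (inducedFunctor W (T : Subgroup Y)).Normal)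
    (hst : ∀ (K R : Subgroup G) [hR : (R.subgroupOf K).Normal],
      IsNormalizerPStable p (↥K ⧸ R.subgroupOf K))
    (S : Sylow p G) : ControlsStrongFusion p (inducedFunctor W (S : Subgroup G)) := by
  have hW' : ∀ W' ∈ ({W} : Set (∀ (Q : Type u) [Group Q], Subgroup Q)), IsCharPFunctor.{u} p W' := by
    intro W' hW'
    rw [Set.mem_singleton_iff.mp hW']; exact hW
  have hPS : ∀ (Y : Type u) [Group Y], Sec Y G → IsNormalizerPStable p Y :=
    sec_forall (fun Y _ => IsNormalizerPStable p Y) (fun X Y _ _ _ e h => nps_of_equiv e h)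
      (fun K R hR => hst K R)
  have hsecF : ∀ (Y : Type u) [Group Y], Sec Y G →
      LocHypF p ({W} : Set (∀ (Q : Type u) [Group Q], Subgroup Q)) Y := by
    intro Y _ hY hCY T' P x hP _ hxP
    haveI : Finite Y := by
      obtain ⟨H, f, hf⟩ := hY
      exact Finite.of_surjective f hf
    have hn := hloc Y (fun K R hR =>
      hPS _ (((Sec.of_quotient _).trans (Sec.of_subgroup K)).trans hY)) hCY T'
    refine FGood.single ((fst_indFam_iff _ _ _ _).mpr ⟨W, rfl, Subgroup.mem_top _, ?_⟩) hP hxP
    rw [Subgroup.normalizer_eq_top_iff.mpr hn]; exact Subgroup.mem_top _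
  have hctl := glaub_main ({W} : Set (∀ (Q : Type u) [Group Q], Subgroup Q)) hW'
    (Nat.card G) G le_rfl (fun Y _ hY => hsecF Y hY) S
  refine ⟨S, inducedFunctor_le W _, fun A hA => ⟨hA, fun g hg => ?_⟩⟩
  obtain ⟨g', hch, hag⟩ := hctl (Subgroup.closure A) g ((Subgroup.closure_le _).mpr hA)
    (Subgroup.mem_top g) (cj_closure_le hg)
  have hg' : g' ∈ Subgroup.normalizer ((inducedFunctor W (S : Subgroup G) :
      Subgroup G) : Set G) := by
    apply hch.mem_of_subgroup
    intro y hy
    obtain ⟨W₀, hW₀, -, hy2⟩ := (fst_indFam_iff _ _ _ y).mp hy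
    rw [Set.mem_singleton_iff.mp hW₀] at hy2
    exact hy2
  exact ⟨g', hg', fun a ha => (hag a (Subgroup.subset_closure ha)).symm⟩

end KStab2

end Cfsg.Agent.Helper13
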