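import Mathlib
import Cfsg.Agent.Helper13.Cliff
import Cfsg.Agent.Helper13.KStab2

set_option autoImplicit false
universe u

namespace Cfsg.Agent.Helper13

open Cfsg Cfsg.Agent.Helper17
open scoped commutatorElement

section QStab

variable {G : Type*} [Group G] [Finite G] {p : ℕ} [Fact p.Prime]

/-- internal form of `p`-stability of the quotient `G / N`. -/
theorem psi_quot (N : Subgroup G) [hN : N.Normal] (hps : IsNormalizerPStable p (G ⧸ N))
    (P : Subgroup G) (hPp : ∀ x ∈ P, ∃ k : ℕ, x ^ p ^ k ∈ N) :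
    ∃ O : Subgroup G, Subgroup.normalizer (P : Set G) ≤ Subgroup.normalizer (O : Set G) ∧
      (∀ y ∈ O, (orderOf y).Coprime p → ∀ x ∈ P, ⁅x, y⁆ ∈ N) ∧
      (∀ g ∈ Subgroup.normalizer (P : Set G),
        ⁅⁅P, Subgroup.zpowers g⁆, Subgroup.zpowers g⁆ ≤ N → g ∈ O) := by
  have hker : (QuotientGroup.mk' N).ker = N := QuotientGroup.ker_mk' N
  have hPp' : IsPGroup p ↥(P.map (QuotientGroup.mk' N)) := by
    rintro ⟨q, x, hx, rfl⟩
    obtain ⟨k, hk⟩ := hPp x hx
    refine ⟨k, Subtype.ext ?_⟩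
    show (QuotientGroup.mk' N x) ^ p ^ k = 1
    rw [← map_pow]
    exact (QuotientGroup.eq_one_iff _).mpr hk
  obtain ⟨O, h1, h2, h3⟩ := psi_hom (QuotientGroup.mk' N) hps P hPp'
  rw [hker] at h2 h3
  refine ⟨O, ?_, h2, h3⟩
  intro x hx
  apply mem_normalizer_of_cj_le
  intro y hy
  rw [mem_cj] at hy
  have h4 := h1 x hx _ hy
  have e : x * (x⁻¹ * y * x) * x⁻¹ = y := by group
  rwa [e] at h4

/-- an intersection of two subgroups whose elements of order prime to `p` centralize `N` and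
`A` modulo `N` is a `p`-group. -/
theorem isPGroup_inf_of_centralize
    (hC : Subgroup.centralizer ((pCore p G : Subgroup G) : Set G) ≤ pCore p G)
    (A : Subgroup G) [hAn : A.Normal] (hAT : A ≤ pCore p G)
    (hA4 : pCore p G ⊓ Subgroup.centralizer (A : Set G) ≤ A)
    (N O₁ O₂ : Subgroup G) (hNA : N ≤ A)
    (hO₁c : ∀ y ∈ O₁, (orderOf y).Coprime p → ∀ x ∈ N, ⁅x, y⁆ ∈ (⊥ : Subgroup G))
    (hO₂c : ∀ y ∈ O₂, (orderOf y).Coprime p → ∀ x ∈ A, ⁅x, y⁆ ∈ N) :
    IsPGroup p ↥(O₁ ⊓ O₂ : Subgroup G) := by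
  have hTp := pCore_isPGroup p G
  apply isPGroup_of_coprime_trivial
  intro y hy hyc
  apply coprime_centralizer_eq_one A hA4 hC hyc
  rw [Subgroup.mem_centralizer_iff]
  intro x hx
  have hcN : ⁅x, y⁆ ∈ N := hO₂c y hy.2 hyc x hx
  have hcy : Commute ⁅x, y⁆ y := by
    have := hO₁c y hy.1 hyc _ hcN
    rw [Subgroup.mem_bot, commutatorElement_eq_one_iff_commute] at this
    exact this
  rw [commutatorElement_def] at hcy hcN
  exact (commute_of_coprime_of_commutator hyc hcy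
    (exists_pow_of_isPGroup hTp (hAT (hNA hcN)))).eq

/-- elements acting quadratically on `A / Z(A)` and on `Z(A)` lie in `O_p(G)`, when all
quotients of `G` are `p`-stable. -/
theorem mem_pCore_of_quad_q
    (hq : ∀ (N : Subgroup G) [N.Normal], IsNormalizerPStable p (G ⧸ N))
    (hC : Subgroup.centralizer ((pCore p G : Subgroup G) : Set G) ≤ pCore p G)
    (A : Subgroup G) [hAn : A.Normal] (hAT : A ≤ pCore p G)
    (hA4 : pCore p G ⊓ Subgroup.centralizer (A : Set G) ≤ A) (g : G)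
    (hq2 : ⁅⁅A, Subgroup.zpowers g⁆, Subgroup.zpowers g⁆ ≤
      A ⊓ Subgroup.centralizer (A : Set G))
    (hq1 : ⁅⁅A ⊓ Subgroup.centralizer (A : Set G), Subgroup.zpowers g⁆, Subgroup.zpowers g⁆ = ⊥) :
    g ∈ pCore p G := by
  have hTp := pCore_isPGroup p G
  have hZp : ∀ x ∈ A ⊓ Subgroup.centralizer (A : Set G), ∃ k : ℕ, x ^ p ^ k ∈ (⊥ : Subgroup G) := by
    intro x hx
    obtain ⟨b, hb⟩ := exists_pow_of_isPGroup hTp (hAT hx.1)
    exact ⟨b, by rw [hb]; exact Subgroup.one_mem _⟩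
  have hAp : ∀ x ∈ A, ∃ k : ℕ, x ^ p ^ k ∈ A ⊓ Subgroup.centralizer (A : Set G) := by
    intro x hx
    obtain ⟨b, hb⟩ := exists_pow_of_isPGroup hTp (hAT hx)
    exact ⟨b, by rw [hb]; exact Subgroup.one_mem _⟩
  obtain ⟨O₁, hO₁n, hO₁c, hO₁g⟩ := psi_quot (⊥ : Subgroup G) (hq ⊥) _ hZp
  obtain ⟨O₂, hO₂n, hO₂c, hO₂g⟩ := psi_quot (A ⊓ Subgroup.centralizer (A : Set G)) (hq _) A hAp
  have hZtop : Subgroup.normalizer ((A ⊓ Subgroup.centralizer (A : Set G) : Subgroup G) : Set G) = ⊤ :=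
    Subgroup.normalizer_eq_top _
  have hAtop : Subgroup.normalizer (A : Set G) = ⊤ := Subgroup.normalizer_eq_top _
  rw [hZtop] at hO₁n hO₁g
  rw [hAtop] at hO₂n hO₂g
  haveI hO₁normal : O₁.Normal := Subgroup.normalizer_eq_top_iff.mp (top_le_iff.mp hO₁n)
  haveI hO₂normal : O₂.Normal := Subgroup.normalizer_eq_top_iff.mp (top_le_iff.mp hO₂n)
  have hOp := isPGroup_inf_of_centralize hC A hAT hA4 _ O₁ O₂ inf_le_left hO₁c hO₂c
  exact le_pCore inferInstance hOp
    ⟨hO₁g g (Subgroup.mem_top g) (by rw [hq1]), hO₂g g (Subgroup.mem_top g) hq2⟩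

/-- an element of order prime to `p` centralizing all the chief factors inside the normal
`p`-subgroup `A` centralizes `A`. -/
theorem centralizes_of_chief (A : Subgroup G) [hAn : A.Normal] (hAp : IsPGroup p ↥A) {y : G}
    (hy : (orderOf y).Coprime p)
    (h : ∀ U V : Subgroup G, IsChiefFactor U V → U ≤ A → ⁅U, Subgroup.zpowers y⁆ ≤ V) :
    y ∈ Subgroup.centralizer (A : Set G) := by
  have key : ∀ n : ℕ, ∀ W : Subgroup G, W.Normal → W ≤ A → Nat.card W ≤ n →
      ∀ w ∈ W, Commute w y := by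
    intro n
    induction n with
    | zero =>
      intro W _ _ hc
      exact absurd hc (by have := Nat.card_pos (α := W); omega)
    | succ n ih =>
      intro W hWn hWA hc w hw
      by_cases hW : W = ⊥
      · rw [hW, Subgroup.mem_bot] at hw
        rw [hw]; exact Commute.one_left y
      · obtain ⟨W₁, hch⟩ := exists_chief_below W hWn hW
        have hlt : Nat.card W₁ < Nat.card W := by
          by_contra hle
          exact hch.1.ne (Subgroup.eq_of_le_of_card_ge hch.1.le (not_lt.mp hle))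
        have ih' := ih W₁ hch.2.2.1 (hch.1.le.trans hWA) (by omega)
        have hc1 : ⁅w, y⁆ ∈ W₁ :=
          h W W₁ hch hWA (Subgroup.commutator_mem_commutator hw (Subgroup.mem_zpowers y))
        have hcy : Commute ⁅w, y⁆ y := ih' _ hc1
        rw [commutatorElement_def] at hcy hc1
        exact commute_of_coprime_of_commutator hy hcy
          (exists_pow_of_isPGroup hAp (hch.1.le.trans hWA hc1))
  rw [Subgroup.mem_centralizer_iff]
  intro a ha
  exact (key (Nat.card A) A hAn le_rfl le_rfl a ha).eq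

omit [Finite G] [Fact p.Prime] in
theorem mem_normalizer_commutator' (H K : Subgroup G) (x : G)
    (hH : x ∈ Subgroup.normalizer (H : Set G)) (hK : x ∈ Subgroup.normalizer (K : Set G)) :
    x ∈ Subgroup.normalizer ((⁅H, K⁆ : Subgroup G) : Set G) := by
  apply mem_normalizer_of_cj_eq_self
  show (⁅H, K⁆).map (MulAut.conj x).toMonoidHom = ⁅H, K⁆
  rw [Subgroup.map_commutator]
  have h1 : H.map (MulAut.conj x).toMonoidHom = H := cj_eq_self_of_mem_normalizer hH
  have h2 : K.map (MulAut.conj x).toMonoidHom = K := cj_eq_self_of_mem_normalizer hK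
  rw [h1, h2]

/-- an element normalizing `H` normalizes the subgroup generated by the elements of `H` of
order prime to `p`. -/
theorem mem_normalizer_closure_coprime (H : Subgroup G) (x : G)
    (hx : x ∈ Subgroup.normalizer (H : Set G)) :
    x ∈ Subgroup.normalizer
      ((Subgroup.closure {y : G | y ∈ H ∧ (orderOf y).Coprime p} : Subgroup G) : Set G) := by
  apply mem_normalizer_of_cj_le
  show (Subgroup.closure {y : G | y ∈ H ∧ (orderOf y).Coprime p}).map
    (MulAut.conj x).toMonoidHom ≤ _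
  rw [MonoidHom.map_closure, Subgroup.closure_le]
  rintro _ ⟨y, ⟨hyH, hyc⟩, rfl⟩
  apply Subgroup.subset_closure
  refine ⟨(Subgroup.mem_normalizer_iff.mp hx y).mp hyH, ?_⟩
  show (orderOf (x * y * x⁻¹)).Coprime p
  rw [orderOf_conj_eq]; exact hyc

/-- the members of the lower-star families relative to subgroups containing the critical
subgroup `A` lie in `O_p(G)`, when all quotients of `G` are `p`-stable and
`C_G(O_p(G)) ≤ O_p(G)`. -/
theorem kLower_le_pCore_q
    (hq : ∀ (N : Subgroup G) [N.Normal], IsNormalizerPStable p (G ⧸ N))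
    (hC : Subgroup.centralizer ((pCore p G : Subgroup G) : Set G) ≤ pCore p G)
    (A : Subgroup G) [hAn : A.Normal] (hAT : A ≤ pCore p G)
    (hA3 : ⁅A, pCore p G⁆ ≤ A ⊓ Subgroup.centralizer (A : Set G))
    (hA4 : pCore p G ⊓ Subgroup.centralizer (A : Set G) ≤ A)
    (Q B : Subgroup G) (hAQ : A ≤ Q) (hB : B ∈ kLowerStarFamily Q) (hBp : IsPGroup p ↥B) :
    B ≤ pCore p G := by
  haveI hTn := pCore_normal' p G
  have hTp := pCore_isPGroup p G
  have hAp : IsPGroup p ↥A := hTp.to_le hAT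
  have hclassA : ⁅A, A⁆ ≤ Subgroup.centralizer (A : Set G) :=
    ((Subgroup.commutator_mono le_rfl hAT).trans hA3).trans inf_le_right
  obtain ⟨hB2, hQB, hBtest⟩ := hB
  have hB2' : ⁅B, B⁆ ≤ Subgroup.centralizer (B : Set G) := hB2
  have hAB : A ≤ Subgroup.normalizer (B : Set G) := hAQ.trans hQB
  have hZc := inf_centralizer_isMulCommutative A
  haveI hZn : (A ⊓ Subgroup.centralizer (A : Set G)).Normal := inferInstance
  have h0 : ⁅A ⊓ Subgroup.centralizer (A : Set G), A ⊓ Subgroup.centralizer (A : Set G)⁆ = ⊥ := by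
    rw [Subgroup.commutator_eq_bot_iff_le_centralizer]; exact abelian_le_centralizer _ hZc
  -- the centre of `B` lies in `O_p(G)`
  have hZBT : B ⊓ Subgroup.centralizer (B : Set G) ≤ pCore p G := by
    intro z hz
    have hzB : Subgroup.zpowers z ≤ B := (Subgroup.zpowers_le).mpr hz.1
    have hzC : Subgroup.zpowers z ≤ Subgroup.centralizer (B : Set G) :=
      (Subgroup.zpowers_le).mpr hz.2
    have h1 : ⁅A, Subgroup.zpowers z⁆ ≤ B :=
      (Subgroup.commutator_mono le_rfl hzB).trans (commutator_le_right_of_le_normalizer hAB)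
    have h2 : ⁅B, Subgroup.zpowers z⁆ = ⊥ := by
      rw [Subgroup.commutator_comm, Subgroup.commutator_eq_bot_iff_le_centralizer]; exact hzC
    have h3 : ⁅⁅A, Subgroup.zpowers z⁆, Subgroup.zpowers z⁆ = ⊥ :=
      le_bot_iff.mp (h2 ▸ Subgroup.commutator_mono h1 le_rfl)
    apply mem_pCore_of_quad_q hq hC A hAT hA4 z
    · rw [h3]; exact bot_le
    · exact le_bot_iff.mp (h3 ▸
        Subgroup.commutator_mono (Subgroup.commutator_mono inf_le_left le_rfl) le_rfl)
  -- `B` acts quadratically on `Z(A)`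
  have hBZ : ⁅B, A ⊓ Subgroup.centralizer (A : Set G)⁆ ≤ B ⊓ Subgroup.centralizer (B : Set G) :=
    hBtest (A ⊓ Subgroup.centralizer (A : Set G)) (abelian_mem_classTwo _ hZc)
      (inf_le_left.trans hAQ) (by rw [Subgroup.normalizer_eq_top]; exact le_top)
      (by rw [h0, Subgroup.commutator_bot_right])
      (le_bot_iff.mp (h0 ▸ Subgroup.commutator_mono (Subgroup.commutator_le_right _ _) le_rfl))
  -- the subgroup `E`
  obtain ⟨E, hEdef⟩ : ∃ E : Subgroup G, E = eSub A B hclassA := ⟨_, rfl⟩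
  have hEA : E ≤ A := hEdef ▸ eSub_le A B hclassA
  have hEclass : E ∈ classTwoSubgroups G :=
    ((Subgroup.commutator_mono hEA hEA).trans hclassA).trans (Subgroup.centralizer_le hEA)
  have hfix : ∀ g : G, (∀ c ∈ ⁅A, A⁆, c ∈ Subgroup.centralizer (B : Set G) → g * c * g⁻¹ = c) →
      g ∈ Subgroup.normalizer (E : Set G) := by
    intro g hg
    rw [hEdef]
    apply mem_normalizer_eSub
    intro c hc hcB
    rw [hg c hc hcB]; exact hcB
  have hBE : B ≤ Subgroup.normalizer (E : Set G) := by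
    intro b hb
    apply hfix
    intro c _ hcB
    have h1 : b * c = c * b := (Subgroup.mem_centralizer_iff.mp hcB) b hb
    rw [h1, mul_inv_cancel_right]
  have hcomZ : ⁅A, A⁆ ≤ A ⊓ Subgroup.centralizer (A : Set G) :=
    le_inf (Subgroup.commutator_le_left A A) hclassA
  have hLE : Subgroup.centralizer ((A ⊓ Subgroup.centralizer (A : Set G) : Subgroup G) : Set G) ≤
      Subgroup.normalizer (E : Set G) := by
    intro l hl
    apply hfix
    intro c hc _
    have h1 : c * l = l * c := (Subgroup.mem_centralizer_iff.mp hl) c (hcomZ hc)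
    rw [← h1, mul_inv_cancel_right]
  have hc1 : ⁅B, ⁅E, E⁆⁆ = ⊥ := by
    rw [Subgroup.commutator_comm, Subgroup.commutator_eq_bot_iff_le_centralizer,
      Subgroup.commutator_le]
    intro a ha x hx
    rw [hEdef] at ha
    exact ha.2 x (hEA hx)
  have hTA : ⁅pCore p G, A⁆ ≤ A ⊓ Subgroup.centralizer (A : Set G) := by
    rw [Subgroup.commutator_comm]; exact hA3
  have hc2 : ⁅⁅B ⊓ Subgroup.centralizer (B : Set G), E⁆, E⁆ = ⊥ := by
    have h1 : ⁅B ⊓ Subgroup.centralizer (B : Set G), E⁆ ≤ A ⊓ Subgroup.centralizer (A : Set G) :=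
      (Subgroup.commutator_mono hZBT hEA).trans hTA
    have h2 : ⁅A ⊓ Subgroup.centralizer (A : Set G), A⁆ = ⊥ := by
      rw [Subgroup.commutator_eq_bot_iff_le_centralizer]; exact inf_le_right
    exact le_bot_iff.mp (h2 ▸ Subgroup.commutator_mono h1 hEA)
  have hBEZ : ⁅B, E⁆ ≤ B ⊓ Subgroup.centralizer (B : Set G) :=
    hBtest E hEclass (hEA.trans hAQ) hBE hc1 hc2
  -- `[A, b, b] ≤ E` for `b ∈ B`
  have hquadE : ∀ b ∈ B, ⁅⁅A, Subgroup.zpowers b⁆, Subgroup.zpowers b⁆ ≤ E := by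
    intro b hb
    have hbB : Subgroup.zpowers b ≤ B := (Subgroup.zpowers_le).mpr hb
    have h1 : ⁅A, Subgroup.zpowers b⁆ ≤ B :=
      (Subgroup.commutator_mono le_rfl hbB).trans (commutator_le_right_of_le_normalizer hAB)
    have h2 : ⁅⁅A, Subgroup.zpowers b⁆, Subgroup.zpowers b⁆ ≤ A :=
      (Subgroup.commutator_mono (Subgroup.commutator_le_left A _) le_rfl).trans
        (Subgroup.commutator_le_left A _)
    have h3 : ⁅⁅A, Subgroup.zpowers b⁆, Subgroup.zpowers b⁆ ≤ ⁅B, B⁆ :=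
      Subgroup.commutator_mono h1 hbB
    intro d hd
    have hdA : d ∈ A := h2 hd
    have hdC : d ∈ Subgroup.centralizer (B : Set G) := hB2' (h3 hd)
    rw [hEdef]
    refine ⟨hdA, fun x hx => ?_⟩
    have hxN : x ∈ Subgroup.normalizer (B : Set G) := hAB hx
    have h4 : x * d⁻¹ * x⁻¹ ∈ Subgroup.centralizer (B : Set G) := by
      have h5 := conj_mem_cj (g := x) (Subgroup.inv_mem _ hdC)
      rwa [← centralizer_cj, cj_eq_self_of_mem_normalizer hxN] at h5
    have e : ⁅d, x⁆ = d * (x * d⁻¹ * x⁻¹) := by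
      simp only [commutatorElement_def]; group
    rw [e]
    exact Subgroup.mul_mem _ hdC h4
  -- the normal subgroup attached to `Z(A)`
  have hZp : ∀ x ∈ A ⊓ Subgroup.centralizer (A : Set G), ∃ k : ℕ, x ^ p ^ k ∈ (⊥ : Subgroup G) := by
    intro x hx
    obtain ⟨b, hb⟩ := exists_pow_of_isPGroup hTp (hAT hx.1)
    exact ⟨b, by rw [hb]; exact Subgroup.one_mem _⟩
  obtain ⟨O₃, hO₃n, hO₃c, hO₃g⟩ := psi_quot (⊥ : Subgroup G) (hq ⊥)
    (A ⊓ Subgroup.centralizer (A : Set G)) hZp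
  have hZtop : Subgroup.normalizer ((A ⊓ Subgroup.centralizer (A : Set G) : Subgroup G) : Set G) = ⊤ :=
    Subgroup.normalizer_eq_top _
  rw [hZtop] at hO₃n hO₃g
  haveI hO₃normal : O₃.Normal := Subgroup.normalizer_eq_top_iff.mp (top_le_iff.mp hO₃n)
  haveI hLn : (Subgroup.centralizer
      ((A ⊓ Subgroup.centralizer (A : Set G) : Subgroup G) : Set G)).Normal := inferInstance
  have hBO₃ : B ≤ O₃ := by
    intro b hb
    apply hO₃g b (Subgroup.mem_top b)
    rw [quad_zpowers_of_comm_le B _ hBZ hb]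
  have hO₃L : ∀ y ∈ O₃, (orderOf y).Coprime p → y ∈ Subgroup.centralizer
      ((A ⊓ Subgroup.centralizer (A : Set G) : Subgroup G) : Set G) := by
    intro y hy hyc
    rw [Subgroup.mem_centralizer_iff]
    intro z hz
    have h1 := hO₃c y hy hyc z hz
    rw [Subgroup.mem_bot, commutatorElement_eq_one_iff_commute] at h1
    exact h1
  -- commutators of `B` with `C_G(Z(A))` lie in `O_p(G)`
  have hcomm : ∀ l ∈ Subgroup.centralizer ((A ⊓ Subgroup.centralizer (A : Set G) : Subgroup G) : Set G),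
      ∀ b ∈ B, ⁅l, b⁆ ∈ pCore p G := by
    intro l hl b hb
    have hEp : ∀ x ∈ E, ∃ k : ℕ, x ^ p ^ k ∈ (⊥ : Subgroup G) := by
      intro x hx
      obtain ⟨k, hk⟩ := exists_pow_of_isPGroup hTp (hAT (hEA hx))
      exact ⟨k, by rw [hk]; exact Subgroup.one_mem _⟩
    obtain ⟨O₁, hO₁n, hO₁c, hO₁g⟩ := psi_quot (⊥ : Subgroup G) (hq ⊥) E hEp
    have hbO₁ : b ∈ O₁ := hO₁g b (hBE hb) (by rw [quad_zpowers_of_comm_le B E hBEZ hb])
    obtain ⟨H₁, hH₁def⟩ : ∃ H₁ : Subgroup G, H₁ = Subgroup.closure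
        {x : G | ∃ l' ∈ Subgroup.centralizer
          ((A ⊓ Subgroup.centralizer (A : Set G) : Subgroup G) : Set G), x = l' * b * l'⁻¹} :=
      ⟨_, rfl⟩
    have hgenH₁ : ∀ l' ∈ Subgroup.centralizer
        ((A ⊓ Subgroup.centralizer (A : Set G) : Subgroup G) : Set G), l' * b * l'⁻¹ ∈ H₁ := by
      intro l' hl'
      rw [hH₁def]
      exact Subgroup.subset_closure ⟨l', hl', rfl⟩
    have hbH₁ : b ∈ H₁ := by
      have := hgenH₁ 1 (Subgroup.one_mem _)
      simpa using this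
    have hH₁le : ∀ O : Subgroup G, b ∈ O → Subgroup.centralizer
        ((A ⊓ Subgroup.centralizer (A : Set G) : Subgroup G) : Set G) ≤
          Subgroup.normalizer (O : Set G) → H₁ ≤ O := by
      intro O hbO hLO
      rw [hH₁def, Subgroup.closure_le]
      rintro _ ⟨l', hl', rfl⟩
      exact (Subgroup.mem_normalizer_iff.mp (hLO hl') b).mp hbO
    have hLH₁ : Subgroup.centralizer
        ((A ⊓ Subgroup.centralizer (A : Set G) : Subgroup G) : Set G) ≤
          Subgroup.normalizer (H₁ : Set G) := by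
      intro l' hl'
      apply mem_normalizer_of_cj_le
      rw [hH₁def]
      show (Subgroup.closure _).map (MulAut.conj l').toMonoidHom ≤ _
      rw [MonoidHom.map_closure, Subgroup.closure_le]
      rintro _ ⟨_, ⟨l'', hl'', rfl⟩, rfl⟩
      apply Subgroup.subset_closure
      refine ⟨l' * l'', Subgroup.mul_mem _ hl' hl'', ?_⟩
      show l' * (l'' * b * l''⁻¹) * l'⁻¹ = l' * l'' * b * (l' * l'')⁻¹
      group
    have hH₁O₁ : H₁ ≤ O₁ := hH₁le O₁ hbO₁ (hLE.trans hO₁n)
    have hH₁O₃ : H₁ ≤ O₃ := hH₁le O₃ (hBO₃ hb) (by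
      rw [Subgroup.normalizer_eq_top_iff.mpr hO₃normal]; exact le_top)
    obtain ⟨R₁, hR₁def⟩ : ∃ R₁ : Subgroup G, R₁ = Subgroup.closure
        {y : G | y ∈ H₁ ∧ (orderOf y).Coprime p} := ⟨_, rfl⟩
    have hR₁L : R₁ ≤ Subgroup.centralizer
        ((A ⊓ Subgroup.centralizer (A : Set G) : Subgroup G) : Set G) := by
      rw [hR₁def, Subgroup.closure_le]
      rintro y ⟨hyH, hyc⟩
      exact hO₃L y (hH₁O₃ hyH) hyc
    have hLR₁ : Subgroup.centralizer
        ((A ⊓ Subgroup.centralizer (A : Set G) : Subgroup G) : Set G) ≤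
          Subgroup.normalizer (R₁ : Set G) := by
      intro l' hl'
      rw [hR₁def]
      exact mem_normalizer_closure_coprime H₁ l' (hLH₁ hl')
    have hbR₁ : b ∈ Subgroup.normalizer (R₁ : Set G) := by
      rw [hR₁def]
      exact mem_normalizer_closure_coprime H₁ b (Subgroup.le_normalizer hbH₁)
    have hR₁E : R₁ ≤ Subgroup.centralizer (E : Set G) := by
      rw [hR₁def, Subgroup.closure_le]
      rintro y ⟨hyH, hyc⟩
      rw [SetLike.mem_coe, Subgroup.mem_centralizer_iff]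
      intro x hx
      have h1 := hO₁c y (hH₁O₁ hyH) hyc x hx
      rw [Subgroup.mem_bot, commutatorElement_eq_one_iff_commute] at h1
      exact h1
    have hH₁p : IsPGroup p ↥H₁ := by
      apply isPGroup_of_coprime_trivial
      intro y hyH hyc
      apply coprime_centralizer_eq_one A hA4 hC hyc
      apply centralizes_of_chief A hAp hyc
      intro U V hUV hUA
      haveI hUn := hUV.2.1
      haveI hVn := hUV.2.2.1
      have hVU : V ≤ U := hUV.1.le
      have hUT : U ≤ pCore p G := hUA.trans hAT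
      have hab : ⁅U, U⁆ ≤ V :=
        (Subgroup.commutator_mono le_rfl hUT).trans
          (commutator_le_of_chief (pCore p G) hTp U V hUV hUT)
      have hVtop : Subgroup.normalizer (V : Set G) = ⊤ := Subgroup.normalizer_eq_top _
      have hUtop : Subgroup.normalizer (U : Set G) = ⊤ := Subgroup.normalizer_eq_top _
      have hSS : SSJoin U V R₁ U :=
        ssJoin_of_normal U V _ R₁ (by rw [hVtop]; exact le_top) hR₁L hLR₁
          (ssJoin_of_normal U V ⊤ _ (by rw [hVtop]) le_top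
            (by rw [Subgroup.normalizer_eq_top_iff.mpr hLn]) (ssJoin_of_chief hUV))
      obtain ⟨W₂, hVW₂, hW₂U, hUR, hfixW⟩ := fixed_compl U V R₁ hVU hab hSS
      have hPU : ⁅U, R₁⁆ ⊔ V ≤ U := sup_le (Subgroup.commutator_le_left U R₁) hVU
      have hPW₂ : ⁅U, R₁⁆ ⊔ V ≤ W₂ := sup_le hUR hVW₂
      have hNP : ∀ x : G, x ∈ Subgroup.normalizer (R₁ : Set G) →
          x ∈ Subgroup.normalizer ((⁅U, R₁⁆ ⊔ V : Subgroup G) : Set G) := by
        intro x hx
        apply mem_normalizer_of_cj_eq_self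
        rw [cj_sup, cj_eq_self_of_mem_normalizer (mem_normalizer_commutator' U R₁ x
          (by rw [hUtop]; exact Subgroup.mem_top x) hx),
          cj_eq_self_of_mem_normalizer (by rw [hVtop]; exact Subgroup.mem_top x)]
      have hbP : Subgroup.zpowers b ≤ Subgroup.normalizer ((⁅U, R₁⁆ ⊔ V : Subgroup G) : Set G) :=
        (Subgroup.zpowers_le).mpr (hNP b hbR₁)
      have hZP : ⁅⁅⁅U, R₁⁆ ⊔ V, Subgroup.zpowers b⁆, Subgroup.zpowers b⁆ ≤ ⁅U, R₁⁆ ⊔ V :=
        (Subgroup.commutator_mono (commutator_le_left_of_le_normalizer hbP) le_rfl).trans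
          (commutator_le_left_of_le_normalizer hbP)
      have hZE : ⁅⁅⁅U, R₁⁆ ⊔ V, Subgroup.zpowers b⁆, Subgroup.zpowers b⁆ ≤ E :=
        (Subgroup.commutator_mono (Subgroup.commutator_mono (hPU.trans hUA) le_rfl) le_rfl).trans
          (hquadE b hb)
      have hZR : ⁅⁅⁅⁅U, R₁⁆ ⊔ V, Subgroup.zpowers b⁆, Subgroup.zpowers b⁆, R₁⁆ ≤ V := by
        have h1 : ⁅E, R₁⁆ = ⊥ := by
          rw [Subgroup.commutator_comm, Subgroup.commutator_eq_bot_iff_le_centralizer]
          exact hR₁E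
        exact (le_bot_iff.mp (h1 ▸ Subgroup.commutator_mono hZE le_rfl)).le.trans bot_le
      have hquadP : ⁅⁅⁅U, R₁⁆ ⊔ V, Subgroup.zpowers b⁆, Subgroup.zpowers b⁆ ≤ V :=
        hfixW _ (hZP.trans hPW₂) hZR
      have hPp : ∀ x ∈ ⁅U, R₁⁆ ⊔ V, ∃ k : ℕ, x ^ p ^ k ∈ V := by
        intro x hx
        obtain ⟨k, hk⟩ := exists_pow_of_isPGroup hTp (hUT (hPU hx))
        exact ⟨k, by rw [hk]; exact Subgroup.one_mem _⟩
      obtain ⟨O₅, hO₅n, hO₅c, hO₅g⟩ := psi_quot V (hq V) (⁅U, R₁⁆ ⊔ V) hPp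
      have hbO₅ : b ∈ O₅ := hO₅g b (hNP b hbR₁) hquadP
      have hH₁O₅ : H₁ ≤ O₅ := hH₁le O₅ hbO₅ (fun l' hl' => hO₅n (hNP l' (hLR₁ hl')))
      have hR₁st : R₁ ≤ stabMod (⁅U, R₁⁆ ⊔ V) V := by
        have h5 : Subgroup.closure {y : G | y ∈ H₁ ∧ (orderOf y).Coprime p} ≤
            stabMod (⁅U, R₁⁆ ⊔ V) V := by
          rw [Subgroup.closure_le]
          rintro y' ⟨hy'H, hy'c⟩
          intro a ha
          exact hO₅c y' (hH₁O₅ hy'H) hy'c a ha
        exact hR₁def.le.trans h5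
      have hPR : ⁅⁅U, R₁⁆ ⊔ V, R₁⁆ ≤ V := (le_stabMod_iff _ _ _).mp hR₁st
      have hUR₁V : ⁅U, R₁⁆ ≤ V :=
        hfixW _ hUR ((Subgroup.commutator_mono le_sup_left le_rfl).trans hPR)
      have hyR₁ : Subgroup.zpowers y ≤ R₁ := by
        rw [Subgroup.zpowers_le, hR₁def]
        exact Subgroup.subset_closure ⟨hyH, hyc⟩
      exact (Subgroup.commutator_mono le_rfl hyR₁).trans hUR₁V
    have h1 : ⁅l, b⁆ ∈ H₁ := by
      rw [commutatorElement_def]
      exact Subgroup.mul_mem _ (hgenH₁ l hl) (Subgroup.inv_mem _ hbH₁)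
    have h2 : ⁅l, b⁆ ∈ Subgroup.centralizer
        ((A ⊓ Subgroup.centralizer (A : Set G) : Subgroup G) : Set G) := by
      have e : ⁅l, b⁆ = l * (b * l⁻¹ * b⁻¹) := by
        simp only [commutatorElement_def]; group
      rw [e]
      exact Subgroup.mul_mem _ hl (hLn.conj_mem _ (Subgroup.inv_mem _ hl) b)
    have h3 : H₁ ⊓ Subgroup.centralizer
        ((A ⊓ Subgroup.centralizer (A : Set G) : Subgroup G) : Set G) ≤
        pCoreOf p (Subgroup.centralizer
          ((A ⊓ Subgroup.centralizer (A : Set G) : Subgroup G) : Set G)) := by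
      apply le_pCoreOf' inf_le_right
      · intro x hx
        exact mem_normalizer_inf' _ _ x (hLH₁ hx) (Subgroup.le_normalizer hx)
      · exact hH₁p.to_le inf_le_left
    exact pCoreOf_le_pCore_of_normal _ (h3 ⟨h1, h2⟩)
  apply pgroup_le_pCore_of_central (O₃ ⊓ stabMod (Subgroup.centralizer
      ((A ⊓ Subgroup.centralizer (A : Set G) : Subgroup G) : Set G)) (pCore p G)) ?_ B ?_ hBp
  · intro w hw hwc x hx
    exact hx.2 w (hO₃L w hw.1 hwc)
  · intro b hb
    exact ⟨hBO₃ hb, fun l hl => hcomm l hl b hb⟩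

end QStab

end Cfsg.Agent.Helper13
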