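import Mathlib
import Cfsg.Agent.Helper13.QStab

set_option autoImplicit false
universe u

namespace Cfsg.Agent.Helper13

open Cfsg Cfsg.Agent.Helper17
open scoped commutatorElement

section QStab2

variable {G : Type u} [Group G] [Finite G] {p : ℕ} [Fact p.Prime]

/-- **Theorem K**, general form: if the elements acting quadratically on `A / Z(A)` and on
`Z(A)` lie in `O_p(G)` and the `p`-subgroups in the lower-star families relative to subgroups
containing `A` lie in `O_p(G)`, the K-infinity subgroups of a Sylow subgroup are normal. -/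
theorem kinf_normal_of_H13 (S : Sylow p G) (A : Subgroup G) [hAn : A.Normal]
    (hAT : A ≤ pCore p G) (hA3 : ⁅A, pCore p G⁆ ≤ A ⊓ Subgroup.centralizer (A : Set G))
    (h1 : ∀ g : G, ⁅⁅A, Subgroup.zpowers g⁆, Subgroup.zpowers g⁆ ≤
        A ⊓ Subgroup.centralizer (A : Set G) →
      ⁅⁅A ⊓ Subgroup.centralizer (A : Set G), Subgroup.zpowers g⁆, Subgroup.zpowers g⁆ = ⊥ →
        g ∈ pCore p G)
    (h3 : ∀ Q B : Subgroup G, A ≤ Q → B ∈ kLowerStarFamily Q → IsPGroup p ↥B →
      B ≤ pCore p G) :
    (inducedFunctor kInfLower (S : Subgroup G)).Normal ∧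
      (inducedFunctor kInfUpper (S : Subgroup G)).Normal := by
  haveI := pCore_normal' p G
  have hTp := pCore_isPGroup p G
  have hTS : pCore p G ≤ (S : Subgroup G) := pCore_le_sylow S
  have hAS : A ≤ (S : Subgroup G) := hAT.trans hTS
  have hA'map : (A.subgroupOf (S : Subgroup G)).map (S : Subgroup G).subtype = A :=
    Subgroup.map_subgroupOf_eq_of_le hAS
  have hT'map : ((pCore p G).subgroupOf (S : Subgroup G)).map (S : Subgroup G).subtype =
      pCore p G := Subgroup.map_subgroupOf_eq_of_le hTS
  have hinj := Subgroup.subtype_injective (S : Subgroup G)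
  have hZ'map : (A.subgroupOf (S : Subgroup G) ⊓ Subgroup.centralizer
      ((A.subgroupOf (S : Subgroup G) : Subgroup ↥(S : Subgroup G)) : Set ↥(S : Subgroup G))).map
      (S : Subgroup G).subtype = A ⊓ Subgroup.centralizer (A : Set G) := by
    rw [map_inf_centralizer, hA'map]
  have hseq := kSeq_le_of_good2 ((pCore p G).subgroupOf (S : Subgroup G))
    (A.subgroupOf (S : Subgroup G))
    ((Subgroup.map_le_map_iff_of_injective hinj).mp (by rw [hA'map, hT'map]; exact hAT))
    ((Subgroup.map_le_map_iff_of_injective hinj).mp (by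
      rw [Subgroup.map_commutator, hZ'map, hA'map, hT'map]; exact hA3))
    (by
      intro g h1' h2'
      show (g : G) ∈ pCore p G
      apply h1 (g : G)
      · have h3' := Subgroup.map_mono (f := (S : Subgroup G).subtype) h1'
        rw [Subgroup.map_commutator, Subgroup.map_commutator, hZ'map, hA'map,
          MonoidHom.map_zpowers] at h3'
        exact h3'
      · have h3' := congrArg (Subgroup.map (S : Subgroup G).subtype) h2'
        rw [Subgroup.map_commutator, Subgroup.map_commutator, hZ'map, MonoidHom.map_zpowers,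
          Subgroup.map_bot] at h3'
        exact h3')
    (by
      intro Q' B' hAQ' hB'
      have hB := (kLower_map_iff (S : Subgroup G) Q' B').mpr hB'
      have hAQ : A ≤ Q'.map (S : Subgroup G).subtype := by
        rw [← hA'map]; exact Subgroup.map_mono hAQ'
      have hBp : IsPGroup p ↥(B'.map (S : Subgroup G).subtype) := (S.2.to_subgroup B').map _
      have h4 := h3 _ _ hAQ hB hBp
      exact (Subgroup.map_le_map_iff_of_injective hinj).mp (by rw [hT'map]; exact h4))
  have h := kinf_eq_of_seq_le S (pCore p G) hTS hseq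
  constructor
  · rw [h.1]
    exact inducedFunctor_normal_of_normal kInfLower (isCharPFunctor_kInfLower p) _ hTp
  · rw [h.2]
    exact inducedFunctor_normal_of_normal kInfUpper (isCharPFunctor_kInfUpper p) _ hTp

/-- **Theorem K for groups with `p`-stable quotients**: if all quotients of `G` are `p`-stable
in the normalizer form and `C_G(O_p(G)) ≤ O_p(G)`, the K-infinity subgroups of a Sylow
`p`-subgroup are normal in `G`. -/
theorem kinf_normal_of_qstable (S : Sylow p G)
    (hq : ∀ (N : Subgroup G) [N.Normal], IsNormalizerPStable p (G ⧸ N))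
    (hC : Subgroup.centralizer ((pCore p G : Subgroup G) : Set G) ≤ pCore p G) :
    (inducedFunctor kInfLower (S : Subgroup G)).Normal ∧
      (inducedFunctor kInfUpper (S : Subgroup G)).Normal := by
  haveI := pCore_normal' p G
  have hTp := pCore_isPGroup p G
  obtain ⟨A, hAn, hAT, hA3, hA4⟩ := exists_critical_normal (pCore p G) hTp
  haveI := hAn
  exact kinf_normal_of_H13 S A hAT hA3
    (fun g h1 h2 => mem_pCore_of_quad_q hq hC A hAT hA4 g h1 h2)
    (fun Q B hAQ hB hBp => kLower_le_pCore_q hq hC A hAT hA3 hA4 Q B hAQ hB hBp)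

end QStab2

end Cfsg.Agent.Helper13
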