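import Mathlib
import Cfsg.Prelude.Def_LocalEven
import Cfsg.Prelude.Def_PLocal
import Cfsg.Agent.Helper13.S4F3
import Cfsg.Agent.S0653
import Cfsg.Agent.S0056

set_option autoImplicit false

namespace Cfsg.Agent.Helper13

open Cfsg Cfsg.Agent.Helper17 Cfsg.Agent.S0653
open scoped commutatorElement

section Loc2

variable {Y : Type*} [Group Y] [Finite Y]

theorem qo_prod_formula (N A : Subgroup Y) [N.Normal] :
    Nat.card ↥(N ⊔ A) * Nat.card ↥(N ⊓ A) = Nat.card N * Nat.card A := by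
  have h1 := tv_card_mul_relIndex N (N ⊔ A) le_sup_left
  have h2 := tv_card_mul_relIndex (N ⊓ A) A inf_le_right
  rw [Subgroup.relIndex_sup_left] at h1
  rw [Subgroup.inf_relIndex_right] at h2
  rw [← h1, ← h2]; ring

/-- the local step for the prime `2`: in a group `Y` with `C(O_2) ≤ O_2`, `Y / O_2` with a normal
`2`-complement and a maximal Sylow `2`-subgroup `T`, if neither `Z(T)` nor `J(T)` is normal then
the symmetric group of degree `4` is involved. -/
theorem s4_loc (H : Subgroup Y) [hHn : H.Normal] (hH2 : IsPGroup 2 H)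
    (hO2 : ∀ N : Subgroup Y, N.Normal → IsPGroup 2 N → N ≤ H)
    (T : Sylow 2 Y) (hHT : H ≤ (T : Subgroup Y))
    (hC : Subgroup.centralizer (H : Set Y) ≤ H)
    (Qb : Subgroup (Y ⧸ H)) (hQn : Qb.Normal) (hQc : (Nat.card Qb).Coprime 2)
    (hQi : ∃ k : ℕ, Qb.index = 2 ^ k)
    (hT : IsCoatom (T : Subgroup Y))
    (hZ : ¬ ((T : Subgroup Y) ⊓ Subgroup.centralizer ((T : Subgroup Y) : Set Y)).Normal)
    (hJ : ¬ (Cfsg.thompsonSubgroupAOf (T : Subgroup Y)).Normal) :
    Cfsg.Involves (Equiv.Perm (Fin 4)) Y := by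
  classical
  haveI : Fact (Nat.Prime 2) := ⟨Nat.prime_two⟩
  obtain ⟨ZH, hZH⟩ : ∃ ZH : Subgroup Y, ZH = H ⊓ Subgroup.centralizer (H : Set Y) := ⟨_, rfl⟩
  have hZHH : ZH ≤ H := hZH ▸ inf_le_left
  have hZHc : ZH ≤ Subgroup.centralizer (H : Set Y) := hZH ▸ inf_le_right
  haveI hZHn : ZH.Normal := by rw [hZH]; infer_instance
  have hZHcomm : ∀ a ∈ ZH, ∀ b ∈ ZH, a * b = b * a := fun a ha b hb =>
    Subgroup.mem_centralizer_iff.mp (hZHc hb) a (hZHH ha)
  obtain ⟨V, hVmem⟩ : ∃ V : Subgroup Y, ∀ v, v ∈ V ↔ v ∈ ZH ∧ v * v = 1 :=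
    ⟨{ carrier := {v | v ∈ ZH ∧ v * v = 1}
       mul_mem' := by
         rintro a b ⟨ha, ha2⟩ ⟨hb, hb2⟩
         refine ⟨ZH.mul_mem ha hb, ?_⟩
         have h1 := hZHcomm a ha b hb
         calc a * b * (a * b) = a * (b * a) * b := by group
           _ = a * (a * b) * b := by rw [h1]
           _ = (a * a) * (b * b) := by group
           _ = 1 := by rw [ha2, hb2, one_mul]
       one_mem' := ⟨ZH.one_mem, one_mul 1⟩
       inv_mem' := by
         rintro a ⟨ha, ha2⟩
         refine ⟨ZH.inv_mem ha, ?_⟩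
         rw [← mul_inv_rev, ha2, inv_one] }, fun v => Iff.rfl⟩
  have hVZ : V ≤ ZH := fun v hv => ((hVmem v).mp hv).1
  have hVH : V ≤ H := hVZ.trans hZHH
  have hV2 : ∀ v ∈ V, v * v = 1 := fun v hv => ((hVmem v).mp hv).2
  haveI hVn : V.Normal := by
    constructor
    intro v hv g
    rw [hVmem] at hv ⊢
    refine ⟨hZHn.conj_mem v hv.1 g, ?_⟩
    calc g * v * g⁻¹ * (g * v * g⁻¹) = g * (v * v) * g⁻¹ := by group
      _ = 1 := by rw [hv.2]; group
  have hVc : H ≤ Subgroup.centralizer (V : Set Y) := by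
    rw [Subgroup.le_centralizer_iff]; exact hVZ.trans hZHc
  obtain ⟨ZT, hZT⟩ : ∃ ZT : Subgroup Y,
      ZT = (T : Subgroup Y) ⊓ Subgroup.centralizer ((T : Subgroup Y) : Set Y) := ⟨_, rfl⟩
  rw [← hZT] at hZ
  have hZTZH : ZT ≤ ZH := by
    intro z hz
    rw [hZT] at hz
    have h1 : z ∈ Subgroup.centralizer (H : Set Y) :=
      Subgroup.centralizer_le (SetLike.coe_subset_coe.mpr hHT) (Subgroup.mem_inf.mp hz).2
    rw [hZH]; exact Subgroup.mem_inf.mpr ⟨hC h1, h1⟩
  have hCZH : Subgroup.centralizer (ZH : Set Y) ≤ H := by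
    obtain ⟨C₂, hC₂⟩ : ∃ C₂ : Subgroup Y, C₂ = Subgroup.centralizer (ZH : Set Y) := ⟨_, rfl⟩
    rw [← hC₂]
    have hC₂n : C₂.Normal := by rw [hC₂]; infer_instance
    by_cases hC₂T : C₂ ≤ (T : Subgroup Y)
    · exact hO2 C₂ hC₂n (T.2.to_le hC₂T)
    · exfalso
      have h1 : (T : Subgroup Y) < C₂ ⊔ (T : Subgroup Y) :=
        lt_of_le_of_ne le_sup_right (fun h => hC₂T (h ▸ le_sup_left))
      have h2 : C₂ ⊔ (T : Subgroup Y) = ⊤ := hT.2 _ h1
      apply hZ
      rw [← Subgroup.normalizer_eq_top_iff, ← top_le_iff, ← h2]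
      refine sup_le ?_ ?_
      · rw [hC₂]
        exact (Subgroup.centralizer_le (SetLike.coe_subset_coe.mpr hZTZH)).trans
          (Subgroup.centralizer_le_normalizer _)
      · intro t ht
        apply mem_normalizer_of_cj_le
        intro z hz
        obtain ⟨w, hw, rfl⟩ := mem_cj'.mp hz
        rw [hZT] at hw ⊢
        obtain ⟨hw1, hw2⟩ := Subgroup.mem_inf.mp hw
        refine Subgroup.mem_inf.mpr
          ⟨Subgroup.mul_mem _ (Subgroup.mul_mem _ ht hw1) (Subgroup.inv_mem _ ht), ?_⟩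
        rw [Subgroup.mem_centralizer_iff]
        intro s hs
        have h3 := Subgroup.mem_centralizer_iff.mp hw2 (t⁻¹ * s * t)
          (Subgroup.mul_mem _ (Subgroup.mul_mem _ (Subgroup.inv_mem _ ht) hs) ht)
        calc s * (t * w * t⁻¹) = t * ((t⁻¹ * s * t) * w) * t⁻¹ := by group
          _ = t * (w * (t⁻¹ * s * t)) * t⁻¹ := by rw [h3]
          _ = t * w * t⁻¹ * s := by group
  have hCV : Subgroup.centralizer (V : Set Y) ≤ H := by
    apply hO2 _ inferInstance
    apply isPGroup_of_coprime_trivial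
    intro y hy hyo
    haveI : IsMulCommutative ZH := .of_setLike_mul_comm hZHcomm
    have h1 : Subgroup.zpowers y ≤ Subgroup.centralizer (ZH : Set Y) := by
      apply Cfsg.Agent.S0056.result (Subgroup.zpowers y) ZH
      · rw [Subgroup.normalizer_eq_top]; exact le_top
      · rw [Nat.card_zpowers]
        obtain ⟨k, hk⟩ := IsPGroup.iff_card.mp (hH2.to_le hZHH)
        rw [hk]
        exact Nat.Coprime.pow_right k hyo
      · intro v hv hvp a ha
        obtain ⟨k, hk⟩ := exists_pow_of_isPGroup hH2 (hZHH hv)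
        have h2 : orderOf v ∣ 2 ^ k := orderOf_dvd_of_pow_eq_one hk
        have h3 : orderOf v = 2 :=
          (Nat.prime_dvd_prime_iff_eq hvp Nat.prime_two).mp (hvp.dvd_of_dvd_pow h2)
        have hvV : v ∈ V := by
          rw [hVmem]; refine ⟨hv, ?_⟩
          rw [← pow_two, ← h3]; exact pow_orderOf_eq_one v
        have haC : a ∈ Subgroup.centralizer (V : Set Y) := (Subgroup.zpowers_le.mpr hy) ha
        exact (Subgroup.mem_centralizer_iff.mp haC v hvV).symm
    have h2 : y ∈ H := hCZH (h1 (Subgroup.mem_zpowers y))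
    exact eq_one_of_isPGroup_of_coprime hH2 h2 hyo
  rw [thompsonSubgroupAOf_eq] at hJ
  have hexA : ∃ A ∈ calA 0 (T : Subgroup Y), ¬ A ≤ H := by
    by_contra hcon
    push Not at hcon
    apply hJ
    have hJeq : JA 0 (T : Subgroup Y) = JA 0 H := by
      obtain ⟨A₀, hA₀⟩ := calA_nonempty 0 (T : Subgroup Y)
      apply le_antisymm
      · apply sSup_le
        intro A hA
        exact le_sSup (calA_of_le hHT hA (hcon A hA))
      · exact JA_mono hHT hA₀ (hcon A₀ hA₀)
    rw [hJeq]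
    constructor
    intro x hx g
    have h1 : (MulAut.conj g).toMonoidHom x ∈ (JA 0 H).map (MulAut.conj g).toMonoidHom :=
      Subgroup.mem_map_of_mem _ hx
    rw [JA_map 0 (MulAut.conj g) H] at h1
    have h2 : H.map (MulAut.conj g).toMonoidHom = H := cj_eq_of_normal g H
    rw [h2] at h1
    exact h1
  obtain ⟨A, hA, hAH⟩ := hexA
  obtain ⟨hAT, hAc, -, hAmax⟩ := hA
  have hAcomm : ∀ a ∈ A, ∀ b ∈ A, a * b = b * a := fun a ha b hb => setLike_mul_comm ha hb
  have hB₁H : H ⊔ A ≠ H := fun h => hAH (h ▸ le_sup_right)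
  have hab : ⁅H ⊔ A, H ⊔ A⁆ ≤ H := by
    rw [Subgroup.commutator_le]
    intro g₁ hg₁ g₂ hg₂
    obtain ⟨h₁, hh₁, a₁, ha₁, rfl⟩ := mem_sup_of_le_normalizer (A := H) (B := A)
      (by rw [Subgroup.normalizer_eq_top]; exact le_top) hg₁
    obtain ⟨h₂, hh₂, a₂, ha₂, rfl⟩ := mem_sup_of_le_normalizer (A := H) (B := A)
      (by rw [Subgroup.normalizer_eq_top]; exact le_top) hg₂
    have hπ : ∀ h ∈ H, ∀ a : Y, (QuotientGroup.mk' H) (h * a) = (QuotientGroup.mk' H) a := by
      intro h hh a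
      have h0 : (QuotientGroup.mk' H) h = 1 := (QuotientGroup.eq_one_iff h).mpr hh
      rw [map_mul, h0, one_mul]
    have h1 : (QuotientGroup.mk' H) ⁅h₁ * a₁, h₂ * a₂⁆ = 1 := by
      rw [map_commutatorElement, hπ h₁ hh₁, hπ h₂ hh₂, ← map_commutatorElement,
        commutatorElement_eq_one_iff_mul_comm.mpr (hAcomm a₁ ha₁ a₂ ha₂), map_one]
    exact (QuotientGroup.eq_one_iff _).mp h1
  obtain ⟨E, hE⟩ : ∃ E : Subgroup Y, E = H ⊓ A := ⟨_, rfl⟩
  obtain ⟨D, hD⟩ : ∃ D : Subgroup Y, D = V ⊔ E := ⟨_, rfl⟩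
  have hEH : E ≤ H := hE ▸ inf_le_left
  have hEA : E ≤ A := hE ▸ inf_le_right
  have hVV : V ≤ Subgroup.centralizer (V : Set Y) := hVH.trans hVc
  have hEV : E ≤ Subgroup.centralizer (V : Set Y) := hEH.trans hVc
  have hEE : E ≤ Subgroup.centralizer (E : Set Y) := by
    intro e he
    rw [Subgroup.mem_centralizer_iff]
    intro e' he'
    exact hAcomm e' (hEA he') e (hEA he)
  have hDD : D ≤ Subgroup.centralizer (D : Set Y) := by
    rw [hD]
    refine sup_le ?_ ?_
    · rw [Subgroup.le_centralizer_iff]; exact sup_le hVV hEV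
    · rw [Subgroup.le_centralizer_iff]; exact sup_le (Subgroup.le_centralizer_iff.mp hEV) hEE
  have hDc : IsMulCommutative D := Subgroup.le_centralizer_iff_isMulCommutative.mp hDD
  have hDT : D ≤ (T : Subgroup Y) := by
    rw [hD]; exact sup_le (hVH.trans hHT) (hEA.trans hAT)
  have hE3 : Nat.card D ≤ Nat.card A := hAmax D hDT hDc (fun a _ => pow_zero a)
  have hE1 : Nat.card ↥(H ⊔ A) * Nat.card E = Nat.card H * Nat.card A := by
    rw [hE]; exact qo_prod_formula H A
  have hE2 : Nat.card D * Nat.card ↥(V ⊓ E) = Nat.card V * Nat.card E := by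
    rw [hD]; exact qo_prod_formula V E
  have hE4 : Nat.card ↥(V ⊓ E) ≤
      Nat.card ↥(V ⊓ Subgroup.centralizer ((H ⊔ A : Subgroup Y) : Set Y)) := by
    apply Subgroup.card_le_of_le
    refine le_inf inf_le_left ?_
    rw [Subgroup.le_centralizer_iff]
    refine sup_le ?_ ?_
    · exact hVc.trans (Subgroup.centralizer_le (SetLike.coe_subset_coe.mpr inf_le_left))
    · intro a ha
      rw [Subgroup.mem_centralizer_iff]
      intro e he
      exact hAcomm e (hEA (Subgroup.mem_inf.mp (SetLike.mem_coe.mp he)).2) a ha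
  have hoff : Nat.card H * Nat.card V ≤ Nat.card ↥(H ⊔ A) *
      Nat.card ↥(V ⊓ Subgroup.centralizer ((H ⊔ A : Subgroup Y) : Set Y)) := by
    have hi : 0 < Nat.card E := Nat.card_pos
    refine Nat.le_of_mul_le_mul_right ?_ hi
    calc Nat.card H * Nat.card V * Nat.card E = Nat.card H * (Nat.card V * Nat.card E) := by ring
      _ = Nat.card H * (Nat.card D * Nat.card ↥(V ⊓ E)) := by rw [hE2]
      _ ≤ Nat.card H * (Nat.card A *
          Nat.card ↥(V ⊓ Subgroup.centralizer ((H ⊔ A : Subgroup Y) : Set Y))) :=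
        Nat.mul_le_mul_left _ (Nat.mul_le_mul hE3 hE4)
      _ = (Nat.card H * Nat.card A) *
          Nat.card ↥(V ⊓ Subgroup.centralizer ((H ⊔ A : Subgroup Y) : Set Y)) := by ring
      _ = (Nat.card ↥(H ⊔ A) * Nat.card E) *
          Nat.card ↥(V ⊓ Subgroup.centralizer ((H ⊔ A : Subgroup Y) : Set Y)) := by rw [hE1]
      _ = Nat.card ↥(H ⊔ A) *
          Nat.card ↥(V ⊓ Subgroup.centralizer ((H ⊔ A : Subgroup Y) : Set Y)) * Nat.card E := by
        ring
  exact s4_of_offender H V T hH2 hHT hVH hVc hV2 hCV hO2 Qb hQn hQc hQi (H ⊔ A) le_sup_left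
    (sup_le hHT hAT) hB₁H hab hoff

end Loc2

end Cfsg.Agent.Helper13
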