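import Mathlib
import Cfsg.Prelude.Def_Local
import Cfsg.Agent.Helper17.Basic
import Cfsg.Agent.Helper13.Syl

/-!
Basic lemmas on tightly embedded subgroups.
-/

set_option autoImplicit false

namespace Cfsg.Agent.Helper13

open Cfsg Cfsg.Agent.Helper17

variable {G : Type*} [Group G]

theorem eq_one_of_mem_odd [Finite G] {A : Subgroup G} (hA : Odd (Nat.card A)) {z : G}
    (hz : z ∈ A) {k : ℕ} (hk : z ^ 2 ^ k = 1) : z = 1 := by
  have h1 : orderOf z ∣ Nat.card A := by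
    have := orderOf_dvd_natCard (⟨z, hz⟩ : ↥A)
    rwa [Subgroup.orderOf_mk] at this
  have h2 : orderOf z ∣ 2 ^ k := orderOf_dvd_of_pow_eq_one hk
  obtain ⟨j, -, hj⟩ := (Nat.dvd_prime_pow Nat.prime_two).mp h2
  rw [hj] at h1
  have h3 : j = 0 := by
    by_contra hj0
    have : 2 ∣ Nat.card A := (dvd_pow_self 2 hj0).trans h1
    exact (Nat.not_even_iff_odd.mpr hA) (even_iff_two_dvd.mpr this)
  rw [h3, pow_zero] at hj
  exact orderOf_eq_one_iff.mp hj

theorem exists_pow_two_of_isPGroup {T : Subgroup G} (hT : IsPGroup 2 T) {t : G} (ht : t ∈ T) :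
    ∃ k : ℕ, t ^ 2 ^ k = 1 := by
  obtain ⟨k, hk⟩ := hT ⟨t, ht⟩
  exact ⟨k, by simpa using congrArg Subtype.val hk⟩

/-- tight embedding: a nontrivial `2`-element `z` of `Q ∩ xQx⁻¹` forces `x ∈ N(Q)`. -/
theorem te_mem_normalizer [Finite G] {Q : Subgroup G} (hQ : IsTightlyEmbedded Q) {x z : G}
    (hz : z ∈ Q) (hz' : x⁻¹ * z * x ∈ Q) (hz1 : z ≠ 1) {k : ℕ} (hk : z ^ 2 ^ k = 1) :
    x ∈ Subgroup.normalizer (Q : Set G) := by
  by_contra hx
  have hodd := hQ.2 x hx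
  have hmem : z ∈ Q ⊓ Q.map (MulAut.conj x).toMonoidHom :=
    Subgroup.mem_inf.mpr ⟨hz, mem_cj.mpr hz'⟩
  exact hz1 (eq_one_of_mem_odd hodd hmem hk)

/-- the same for a conjugate of `Q`. -/
theorem te_mem_normalizer_cj [Finite G] {Q : Subgroup G} (hQ : IsTightlyEmbedded Q) (g : G)
    {x z : G} (hz : z ∈ cj g Q) (hz' : x⁻¹ * z * x ∈ cj g Q) (hz1 : z ≠ 1) {k : ℕ}
    (hk : z ^ 2 ^ k = 1) : x ∈ Subgroup.normalizer ((cj g Q : Subgroup G) : Set G) := by
  rw [normalizer_cj, mem_cj]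
  refine te_mem_normalizer hQ (z := g⁻¹ * z * g) (mem_cj.mp hz) ?_ ?_ (k := k) ?_
  · have h1 := mem_cj.mp hz'
    have e : (g⁻¹ * x * g)⁻¹ * (g⁻¹ * z * g) * (g⁻¹ * x * g) = g⁻¹ * (x⁻¹ * z * x) * g := by
      group
    rw [e]; exact h1
  · intro h
    apply hz1
    have e : z = g * (g⁻¹ * z * g) * g⁻¹ := by group
    rw [e, h]; group
  · exact conj_pow_eq_one' g z _ hk

/-- a `p`-subgroup of `M` is no larger than a `p`-subgroup of `M` of index prime to `p`. -/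
theorem card_le_of_odd_relIndex [Finite G] {p : ℕ} [Fact p.Prime] {A R M : Subgroup G}
    (hA : IsPGroup p A) (hAM : A ≤ M) (hRM : R ≤ M) (hR : ¬ p ∣ R.relIndex M) :
    Nat.card A ≤ Nat.card R := by
  obtain ⟨k, hk⟩ := IsPGroup.iff_card.mp hA
  have h1 : Nat.card A ∣ Nat.card M := Subgroup.card_dvd_of_le hAM
  have h2 : Nat.card R * R.relIndex M = Nat.card M := by
    have h3 := Subgroup.relIndex_mul_relIndex ⊥ R M bot_le hRM
    rwa [Subgroup.relIndex_bot_left, Subgroup.relIndex_bot_left] at h3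
  rw [← h2, hk] at h1
  have hcop : Nat.Coprime (p ^ k) (R.relIndex M) :=
    Nat.Coprime.pow_left k ((Nat.Prime.coprime_iff_not_dvd Fact.out).mpr hR)
  have h3 : p ^ k ∣ Nat.card R := hcop.dvd_of_dvd_mul_right h1
  rw [hk]
  exact Nat.le_of_dvd Nat.card_pos h3

end Cfsg.Agent.Helper13
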